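import Cfsg.Agent.Lib.Lead.JankoTwoAlt.Small
import Cfsg.Agent.Lib.Lead.JankoOne.Model

/-!
# The case of degree five: the first Janko group
-/

set_option autoImplicit false

namespace Cfsg.Agent.Lead.JankoTwoAlt

open Subgroup Cfsg

universe u

variable {G : Type u} [Group G] [Finite G]

namespace Ctx

variable (D : Ctx G 5)

theorem card_five : Nat.card (alternatingGroup (Fin 5)) = 4 * 15 := by
  rw [nat_card_alternatingGroup, Nat.card_fin]; rfl

include D in
theorem eq_top_of_normal {M : Subgroup G} [M.Normal] (hM : M ≠ ⊥) : M = ⊤ := by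
  haveI : Fact (Nat.Prime 2) := ⟨Nat.prime_two⟩
  have hodd : Odd 15 := by decide
  have hinv : ∀ x : G, x * x = 1 → x ∈ M := fun x hx => by
    by_cases h1 : x = 1
    · rw [h1]; exact one_mem _
    · exact D.mem_of_normal small_five card_five hodd hM (orderOf_eq_prime (by rw [pow_two, hx]) h1)
  have hTM : ∀ t ∈ D.T, t ∈ M := by
    intro t ht
    obtain ⟨x, rfl⟩ := D.exists_emb ht
    obtain ⟨a, ha, hax⟩ := five_gen x
    have h1 := hinv (D.emb a) (by rw [← map_mul, ha, map_one])
    have h2 := hinv (D.emb (a * x)) (by rw [← map_mul, hax, map_one])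
    rw [map_mul] at h2
    exact (M.mul_mem_cancel_left h1).1 h2
  have hCM : ∀ x : G, x * D.J = D.J * x → x ∈ M := fun x hx =>
    (D.split x hx).elim (hTM x) fun h => (M.mul_mem_cancel_left (hinv _ D.sqJ)).1 (hTM _ h)
  set N := normalizer ((D.P : Subgroup G) : Set G)
  -- the relation of conjugacy under the intersection with the normalizer
  let R : G → G → Prop := fun v w => ∃ k ∈ N, k ∈ M ∧ k * v * k⁻¹ = w
  have Rsymm : ∀ {v w}, R v w → R w v := by
    rintro v w ⟨k, hk, hkM, rfl⟩
    exact ⟨k⁻¹, inv_mem hk, inv_mem hkM, by group⟩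
  have Rtrans : ∀ {v w z}, R v w → R w z → R v z := by
    rintro v w z ⟨k, hk, hkM, rfl⟩ ⟨l, hl, hlM, rfl⟩
    exact ⟨l * k, mul_mem hl hk, mul_mem hlM hkM, by group⟩
  have Rconj : ∀ {v w n}, n ∈ N → R v w → R (n * v * n⁻¹) (n * w * n⁻¹) := by
    rintro v w n hn ⟨k, hk, hkM, rfl⟩
    exact ⟨n * k * n⁻¹, mul_mem (mul_mem hn hk) (inv_mem hn), ‹M.Normal›.conj_mem k hkM n, by group⟩
  obtain ⟨a, ha, ha1⟩ := D.exists_ne_one card_five hodd
  -- an element of order two in `T` different from `a`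
  obtain ⟨b, hb, hb1, hba⟩ : ∃ b ∈ D.S₀, b ≠ 1 ∧ b ≠ a := by
    by_contra h
    simp only [not_exists, not_and, not_not] at h
    classical
    have hle : Nat.card D.S₀ ≤ Nat.card ({1, a} : Finset G) := Nat.card_le_card_of_injective
      (fun s : D.S₀ => (⟨(s : G), by
        by_cases hs : (s : G) = 1
        · simp [hs]
        · simp [h s s.2 hs]⟩ : ({1, a} : Finset G)))
      fun s s' e => Subtype.ext (congrArg (fun z : ({1, a} : Finset G) => (z : G)) e)
    rw [D.card_S₀ card_five hodd, Nat.card_eq_fintype_card, Fintype.card_coe] at hle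
    have := Finset.card_le_two (a := (1 : G)) (b := a)
    omega
  have hab : a * b ≠ 1 := fun e => hba (by
    rw [eq_inv_of_mul_eq_one_right e, inv_eq_of_mul_eq_one_right (D.sq_S₀ small_five card_five hodd ha)])
  have hT : ∀ v w, v ∈ D.S₀ → w ∈ D.S₀ → v ≠ 1 → w ≠ 1 → R v w ∧ R (D.J * v) (D.J * w) := by
    intro v w hv hw hv1 hw1
    by_cases hvw : v = w
    · subst hvw
      exact ⟨⟨1, one_mem _, one_mem _, by simp⟩, ⟨1, one_mem _, one_mem _, by simp⟩⟩
    obtain ⟨t, htT, ht, he⟩ := D.exists_rot small_five card_five hodd hv hw hv1 hw1 hvw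
    refine ⟨⟨t, ht, hTM t htT, he⟩, ⟨t, ht, hTM t htT, ?_⟩⟩
    rw [show t * (D.J * v) * t⁻¹ = (t * D.J * t⁻¹) * (t * v * t⁻¹) by group, he, D.comm t htT,
      mul_inv_cancel_right]
  have hcases : ∀ z ∈ (D.P : Subgroup G), z ≠ 1 →
      z = D.J ∨ (z ∈ D.S₀) ∨ ∃ s ∈ D.S₀, s ≠ 1 ∧ z = D.J * s := by
    intro z hz hz1
    rcases D.mem_S_cases hz with h | h
    · exact Or.inr (Or.inl h)
    · by_cases h1 : D.J * z = 1
      · exact Or.inl (by simpa [D.J_mul_J] using congrArg (D.J * ·) h1)
      · exact Or.inr (Or.inr ⟨_, h, h1, (D.J_mul_J z).symm⟩)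
  -- `J` moves to one of the two triples
  obtain ⟨f, hf⟩ : ∃ f : G → G, (f = id ∨ f = (D.J * ·)) ∧
      ∀ s ∈ D.S₀, s ≠ 1 → R D.J (f s) := by
    obtain ⟨n, hn, he⟩ := D.orbit_P small_five card_five hodd ha.1 ha1
    obtain ⟨t, htT, ht, het⟩ := D.exists_rot small_five card_five hodd ha hb ha1 hb1 hba.symm
    have hR : R D.J (n⁻¹ * b * n) := by
      have := Rconj (inv_mem hn) (hT a b ha hb ha1 hb1).1
      rwa [← he, inv_inv, show n⁻¹ * (n * D.J * n⁻¹) * n = D.J by group] at this
    have hne : n⁻¹ * b * n ≠ D.J := fun e => hba (by rw [← he, ← e]; group)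
    have hmem : n⁻¹ * b * n ∈ (D.P : Subgroup G) := by
      simpa using D.conj_P (inv_mem hn) hb.1
    have hne1 : n⁻¹ * b * n ≠ 1 := fun e => hb1 (by
      calc b = n * (n⁻¹ * b * n) * n⁻¹ := by group
        _ = 1 := by rw [e]; group)
    rcases hcases _ hmem hne1 with h | h | ⟨s₀, hs₀, hs₁, h⟩
    · exact absurd h hne
    · exact ⟨id, Or.inl rfl, fun s hs hs1 => Rtrans hR (hT _ s h hs hne1 hs1).1⟩
    · refine ⟨(D.J * ·), Or.inr rfl, fun s hs hs1 => Rtrans hR ?_⟩
      rw [h]
      exact (hT s₀ s hs₀ hs hs₁ hs1).2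
  obtain ⟨hf, hRf⟩ := hf
  have hfinj : Function.Injective f := by
    rcases hf with rfl | rfl
    · exact Function.injective_id
    · exact fun _ _ h => mul_left_cancel h
  have horb : ∀ z ∈ (D.P : Subgroup G), z ≠ 1 → R D.J z := by
    intro z hz hz1
    obtain ⟨n, hn, he⟩ := D.orbit_P small_five card_five hodd hz hz1
    by_contra hno
    classical
    -- the four relatives of `z` avoid the class of `J`
    let w : Finset G := {D.J, f a, f b, f (a * b)}
    have hw : ∀ v ∈ w, R D.J v ∧ v ≠ 1 ∧ v ∈ (D.P : Subgroup G) := by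
      intro v hv
      simp only [w, Finset.mem_insert, Finset.mem_singleton] at hv
      have key : ∀ s ∈ D.S₀, s ≠ 1 → R D.J (f s) ∧ f s ≠ 1 ∧ f s ∈ (D.P : Subgroup G) := by
        intro s hs hs1
        refine ⟨hRf s hs hs1, ?_⟩
        rcases hf with rfl | rfl
        · exact ⟨hs1, hs.1⟩
        · exact ⟨fun e => D.hJT (by rw [eq_inv_of_mul_eq_one_left e]; exact inv_mem hs.2),
            mul_mem D.hJP hs.1⟩
      rcases hv with rfl | rfl | rfl | rfl
      · exact ⟨⟨1, one_mem _, one_mem _, by simp⟩, D.J_ne, D.hJP⟩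
      · exact key a ha ha1
      · exact key b hb hb1
      · exact key _ (mul_mem ha hb) hab
    have hwcard : w.card = 4 := by
      have hJ : ∀ s ∈ D.S₀, s ≠ 1 → D.J ≠ f s := by
        intro s hs hs1 e
        rcases hf with rfl | rfl
        · exact D.hJT (e ▸ hs.2)
        · exact hs1 (mul_left_cancel ((mul_one D.J).trans e)).symm
      have h1 : a ≠ a * b := fun e => hb1 (mul_left_cancel ((mul_one a).trans e)).symm
      have h2 : b ≠ a * b := fun e => ha1 (mul_right_cancel ((one_mul b).trans e)).symm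
      rw [Finset.card_insert_of_notMem (by simp [hJ a ha ha1, hJ b hb hb1, hJ _ (mul_mem ha hb) hab]),
        Finset.card_insert_of_notMem (by simp [hfinj.eq_iff, hba.symm, hb1]),
        Finset.card_insert_of_notMem (by simp [hfinj.eq_iff, ha1]), Finset.card_singleton]
    let g : G → G := if f = id then (D.J * ·) else id
    have hsub : w.image (fun v => n * v * n⁻¹) ⊆ {g a, g b, g (a * b)} := by
      intro v hv
      rw [Finset.mem_image] at hv
      obtain ⟨v, hv, rfl⟩ := hv
      obtain ⟨hv, hv1, hvP⟩ := hw v hv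
      have hR : R z (n * v * n⁻¹) := he ▸ Rconj hn hv
      have hnv : ¬ R D.J (n * v * n⁻¹) := fun h => hno (Rtrans h (Rsymm hR))
      have hne1 : n * v * n⁻¹ ≠ 1 := fun e => hv1 (by
        calc v = n⁻¹ * (n * v * n⁻¹) * n := by group
          _ = 1 := by rw [e]; group)
      have hS : ∀ s ∈ D.S₀, s ≠ 1 → g s ∈ ({g a, g b, g (a * b)} : Finset G) := fun s hs hs1 => by
        rcases D.S₀_cases card_five hodd ha hb ha1 hb1 hba.symm hab hs with rfl | rfl | rfl | rfl
        · exact absurd rfl hs1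
        · simp
        · simp
        · simp
      rcases hcases _ (D.conj_P hn hvP) hne1 with h | h | ⟨s, hs, hs1, h⟩
      · exact absurd ⟨1, one_mem _, one_mem _, by rw [h]; simp⟩ hnv
      · rcases hf with rfl | rfl
        · exact absurd (hRf _ h hne1) hnv
        · have hg : g = id := if_neg fun e => D.J_ne (by simpa using congrFun e 1)
          have := hS _ h hne1
          rw [hg] at this ⊢
          exact this
      · rw [h] at hnv ⊢
        rcases hf with rfl | rfl
        · have hg : g = (D.J * ·) := if_pos rfl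
          have := hS s hs hs1
          rw [hg] at this ⊢
          exact this
        · exact absurd (hRf s hs hs1) hnv
    have := Finset.card_le_card hsub
    rw [Finset.card_image_of_injective _ (fun _ _ e => mul_left_cancel (mul_right_cancel e)), hwcard] at this
    have := Finset.card_le_three (a := g a) (b := g b) (c := g (a * b))
    omega
  -- Frattini argument
  have hPM : (D.P : Subgroup G) ≤ M := fun x hx =>
    hinv x (D.sq_P small_five card_five hodd hx)
  have hNM : N ≤ M := by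
    intro n hn
    have hz1 : n * D.J * n⁻¹ ≠ 1 := fun e => D.J_ne (by
      calc D.J = n⁻¹ * (n * D.J * n⁻¹) * n := by group
        _ = 1 := by rw [e]; group)
    obtain ⟨k, -, hkM, hk⟩ := horb _ (D.conj_P hn D.hJP) hz1
    refine (M.mul_mem_cancel_left (inv_mem hkM)).1 (hCM _ ?_)
    calc k⁻¹ * n * D.J = k⁻¹ * (n * D.J * n⁻¹) * n := by group
      _ = k⁻¹ * (k * D.J * k⁻¹) * n := by rw [hk]
      _ = D.J * (k⁻¹ * n) := by group
  exact top_le_iff.1 ((Sylow.normalizer_sup_eq_top' D.P hPM).ge.trans (sup_le hNM le_rfl))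

include D in
theorem isoJ1 : Cfsg.Spor.IsoJ1 G := by
  haveI : Nontrivial G := ⟨⟨D.J, 1, D.J_ne⟩⟩
  haveI : IsSimpleGroup G :=
    ⟨fun M hM => (em (M = ⊥)).imp id fun h => haveI := hM; D.eq_top_of_normal h⟩
  haveI : Fact (Nat.Prime 2) := ⟨Nat.prime_two⟩
  let ι : Multiplicative (ZMod 2) →* G := (zpowers D.J).subtype.comp
    (mulEquivOfPrimeCardEq (p := 2) (G := Multiplicative (ZMod 2)) (G' := zpowers D.J)
      (by simp) (by rw [Nat.card_zpowers, D.hJ])).toMonoidHom
  have hι : ∀ i, ι i = 1 ∨ ι i = D.J := by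
    intro i
    have hmem : ι i ∈ zpowers D.J := SetLike.coe_mem _
    obtain ⟨j, hj⟩ := mem_zpowers_iff.1 hmem
    rw [← hj]
    rcases Int.even_or_odd' j with ⟨l, rfl | rfl⟩
    · left; rw [zpow_mul, show D.J ^ (2 : ℤ) = 1 by rw [zpow_two]; exact D.sqJ, one_zpow]
    · right; rw [zpow_add, zpow_mul, show D.J ^ (2 : ℤ) = 1 by rw [zpow_two]; exact D.sqJ, one_zpow,
        one_mul, zpow_one]
  have hcomm : ∀ i a, Commute (ι i) (D.emb a) := fun i a => by
    rcases hι i with h | h <;> rw [h]
    · exact Commute.one_left _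
    · exact (D.comm _ (D.emb_mem a)).symm
  let F : JankoOne.CG →* centralizer ({D.J} : Set G) :=
    (ι.noncommCoprod D.emb hcomm).codRestrict _ fun ia => mem_centralizer_singleton_iff.2 (by
      show ι ia.1 * D.emb ia.2 * D.J = D.J * (ι ia.1 * D.emb ia.2)
      rw [mul_assoc, D.comm _ (D.emb_mem _)]
      rcases hι ia.1 with h | h <;> rw [h]
      · simp)
  have hFinj : Function.Injective F := by
    rw [injective_iff_map_eq_one]
    rintro ⟨i, a⟩ h
    have h : ι i * D.emb a = 1 := congrArg Subtype.val h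
    rcases hι i with hi | hi
    · rw [hi, one_mul] at h
      refine Prod.ext ?_ (D.emb_inj (h.trans (map_one _).symm))
      exact (MulEquiv.injective _) (Subtype.ext (hi.trans (by simp)))
    · refine absurd ?_ D.hJT
      rw [← hi, eq_inv_of_mul_eq_one_left h]
      exact inv_mem (D.emb_mem a)
  have hFbij : Function.Bijective F := (Nat.bijective_iff_injective_and_card F).2 ⟨hFinj, by
    rw [D.card_cent, Nat.card_prod]
    simp⟩
  exact JankoOne.isoJ1 (t := D.J) ⟨D.hJ, D.P, D.hJP, D.hcen⟩ (MulEquiv.ofBijective F hFbij).symm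

end Ctx

end Cfsg.Agent.Lead.JankoTwoAlt
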