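import Cfsg.Agent.Lib.Lead.JankoTwoAlt.Count
import Cfsg.Agent.Lib.Small.OrderFiveHundredFourIso
import Cfsg.Agent.Lib.Solv.OddGated.SpecThree.TwoRCase
import Mathlib.FieldTheory.Finite.GaloisField
import Mathlib.FieldTheory.Galois.Basic

/-!
# Degree four: the automorphism group of `PSL(2,8)`
-/

set_option autoImplicit false
set_option linter.style.haveILetI false

namespace Cfsg.Agent.Lead.JankoTwoAlt

open Subgroup Cfsg
open Cfsg.Agent.Fusion
open Cfsg.Agent.Small

universe u

/-- The automorphism group of `PSL(2,8)` has order at most 1512. -/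
theorem card_mulAut_le {F : Type} [Field F] [Fintype F] [Algebra (ZMod 2) F] (hF : Fintype.card F = 8) :
    Nat.card (MulAut (Matrix.ProjectiveSpecialLinearGroup (Fin 2) F)) ≤ 1512 := by
  haveI : Fact (Nat.Prime 2) := ⟨Nat.prime_two⟩
  haveI : CharP F 2 := charP_of_injective_algebraMap (algebraMap (ZMod 2) F).injective 2
  have hchar : ringChar F = 2 := ringChar.eq F 2
  have hP : Nat.card (Matrix.ProjectiveSpecialLinearGroup (Fin 2) F) = 504 := by
    have h1 := Classical.Dickson.card_P2 (F := F)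
    rw [hF, show Nat.gcd 2 (8 - 1) = 1 from rfl, mul_one] at h1
    rw [h1]; rfl
  haveI : Finite (Matrix.ProjectiveSpecialLinearGroup (Fin 2) F) := Nat.finite_of_card_ne_zero (by omega)
  have hfield : Nat.card (F ≃+* F) ≤ 3 := by
    let g : (F ≃+* F) → (F ≃ₐ[ZMod 2] F) := fun σ => AlgEquiv.ofRingEquiv (f := σ) fun x => by
      exact RingHom.congr_fun (Subsingleton.elim (σ.toRingHom.comp (algebraMap (ZMod 2) F))
        (algebraMap (ZMod 2) F)) x
    have hg : Function.Injective g := fun σ τ h => RingEquiv.ext fun x => AlgEquiv.congr_fun h x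
    refine (Nat.card_le_card_of_injective g hg).trans (le_of_eq ?_)
    rw [IsGalois.card_aut_eq_finrank]
    have h := Module.card_eq_pow_finrank (K := ZMod 2) (V := F)
    rw [hF, ZMod.card, show (8 : ℕ) = 2 ^ 3 from rfl] at h
    exact (Nat.pow_right_injective le_rfl h).symm
  haveI : Finite (F ≃+* F) := Finite.of_injective (fun σ => (σ : F → F)) DFunLike.coe_injective
  refine (Nat.card_le_card_of_surjective
    (fun z : Matrix.ProjectiveSpecialLinearGroup (Fin 2) F × (F ≃+* F) =>
      MulAut.conj z.1 * PSL2.fieldP z.2) ?_).trans ?_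
  · intro α
    obtain ⟨g, σ, rfl⟩ := PSL2.aut_eq (p := 2) (f := 3) (by rw [hF]; rfl) α
    obtain ⟨y, hy⟩ := Cfsg.Agent.Solv.SpecThree.conjP_inner g (FiniteField.isSquare_of_char_two hchar _)
    exact ⟨(y, σ), by rw [hy]⟩
  · rw [Nat.card_prod, hP]
    omega

variable {G : Type u} [Group G] [Finite G]

namespace Ctx

variable (D : Ctx G 4)

include D in
theorem isoMulAut (hns : ¬ Group.IsSolvable G) :
    ∃ (F : Type) (_ : Field F) (_ : Fintype F), Fintype.card F = 8 ∧
      Nonempty (G ≃* MulAut (Matrix.ProjectiveSpecialLinearGroup (Fin 2) F)) := by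
  classical
  haveI : Fact (Nat.Prime 2) := ⟨Nat.prime_two⟩
  have hse := D.stronglyEmbedded hns
  obtain ⟨p⟩ := D.fix_nonempty hns
  obtain ⟨u, hu2, hub, hup, hur⟩ := D.swapper hns p
  have huu : u * u = 1 := SEPairs.sq_one hu2
  have hui : u⁻¹ = u := SEPairs.inv_self hu2
  have huH : u ∉ D.H := fun h => p.2.1 (hub ▸ (D.smul_base.2 h))
  have hsqP : ∀ {s : G}, s ∈ (D.P : Subgroup G) → s * s = 1 := D.sq_P small_four card_four odd_three
  have hordP : ∀ {s : G}, s ∈ (D.P : Subgroup G) → s ≠ 1 → orderOf s = 2 := fun hs h1 =>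
    orderOf_eq_prime (by rw [pow_two, hsqP hs]) h1
  have hfree : ∀ {s : G}, s ∈ (D.P : Subgroup G) → s • p.1 = p.1 → s = 1 := by
    intro s hs hsp
    by_contra h1
    exact p.2.1 (SEPairs.fixed_unique hse (hordP hs h1) hsp (D.smul_base.2 (D.P_le hs)))
  -- the Sylow subgroup is regular on the other points
  have hothers : Nat.card {q : G ⧸ D.H // q ≠ D.base} = 8 := by
    rw [D.card_others hns, D.card_Fix hns]
  let π : ↥(D.P : Subgroup G) → {q : G ⧸ D.H // q ≠ D.base} := fun s => ⟨(s : G) • p.1, fun e =>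
    p.2.1 (by rw [← inv_smul_smul (s : G) p.1, e, D.smul_base.2 (inv_mem (D.P_le s.2))])⟩
  have hπ : Function.Bijective π := (Nat.bijective_iff_injective_and_card π).2 ⟨fun a b h => by
      have h : (a : G) • p.1 = (b : G) • p.1 := congrArg Subtype.val h
      refine Subtype.ext (inv_mul_eq_one.1 (hfree ((D.P : Subgroup G).mul_mem
        ((D.P : Subgroup G).inv_mem a.2) b.2) ?_))
      rw [mul_smul, ← h, inv_smul_smul], by rw [D.card_P card_four odd_three, hothers]⟩
  -- the stabilizer of the second point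
  set K := D.H ⊓ MulAction.stabilizer G p.1
  have hK : Nat.card K = 21 := by
    let f : D.H → {q : G ⧸ D.H // q ≠ D.base} := fun h => ⟨(h : G) • p.1, fun e =>
      p.2.1 (by rw [← inv_smul_smul (h : G) p.1, e, D.smul_base.2 (inv_mem h.2)])⟩
    have h := card_eq_mul_of_fibres D.H K inf_le_left f (fun a b => by
      simp only [f, Subtype.ext_iff, K, mem_inf, MulAction.mem_stabilizer_iff, mul_smul, inv_smul_eq_iff]
      exact ⟨fun h => ⟨mul_mem (inv_mem a.2) b.2, h.symm⟩, fun h => h.2.symm⟩) (fun q => by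
      obtain ⟨s, hs⟩ := hπ.2 q
      exact ⟨⟨s, D.P_le s.2⟩, hs⟩)
    rw [D.card_H, hothers] at h
    omega
  have hRK : D.R ≤ K := fun a ha => ⟨D.R_le ha, p.2.2 a ha⟩
  have hKR : ∀ d ∈ K, ∀ a ∈ D.R, d * a * d⁻¹ ∈ D.R := by
    intro d hd a ha
    have h := seven_unique (A := D.R.map (MulAut.conj d).toMonoidHom) (B := D.R) (K := K) (by
      rintro _ ⟨b, hb, rfl⟩
      exact mul_mem (mul_mem hd (hRK hb)) (inv_mem hd)) hRK
      (by rw [card_map_of_injective (MulAut.conj d).injective, D.card_R]) D.card_R (by rw [hK])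
    exact h.le (mem_map_of_mem (MulAut.conj d).toMonoidHom ha)
  have huR : ∀ a ∈ D.R, u * a * u⁻¹ = a⁻¹ := by
    intro a ha
    obtain ⟨j, rfl⟩ := mem_zpowers_iff.1 ha
    rw [← conj_zpow, hur, inv_zpow]
  have hRcomm : ∀ a ∈ D.R, ∀ b ∈ D.R, a * b = b * a := fun a ha b hb =>
    (D.commute_R_of_comm (x := a) (D.commute_R_of_comm rfl ha).symm hb)
  have hinvK : ∀ d ∈ K, u * d * u⁻¹ = d⁻¹ → d ∈ D.R := by
    intro d hd hdu
    have hc : d * D.r * d⁻¹ ∈ D.R := hKR d hd _ (mem_zpowers _)
    have e := huR _ hc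
    rw [show u * (d * D.r * d⁻¹) * u⁻¹ = (u * d * u⁻¹) * (u * D.r * u⁻¹) * (u * d * u⁻¹)⁻¹ by group,
      hdu, hur] at e
    have h2 : d * d * D.r = D.r * (d * d) := by
      have e' := congrArg (·⁻¹) e
      simp only [mul_inv_rev, inv_inv, mul_assoc] at e'
      calc d * d * D.r = d * (d * (D.r * d⁻¹)) * d := by group
        _ = d * (d⁻¹ * (D.r * d)) * d := by rw [← e']
        _ = D.r * (d * d) := by group
    have hd2 := D.centR_eq hns h2
    have h21 : d ^ 21 = 1 := by
      have h := orderOf_dvd_natCard (⟨d, hd⟩ : K)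
      rw [orderOf_mk, hK] at h
      exact orderOf_dvd_iff_pow_eq_one.1 h
    have : (d * d) ^ 11 = d := by
      rw [← pow_two, ← pow_mul, show 2 * 11 = 21 + 1 from rfl, pow_succ, h21, one_mul]
    exact this ▸ pow_mem hd2 11
  -- involutions outside the normalizer
  have houtside : ∀ t : G, t * t = 1 → t ∉ D.H →
      ∃ s ∈ (D.P : Subgroup G), ∃ a ∈ D.R, t = s * (a * u) * s := by
    intro t ht htH
    obtain ⟨s, hs⟩ := hπ.2 ⟨t • D.base, fun e => htH (D.smul_base.1 e)⟩
    have hs : (s : G) • p.1 = t • D.base := congrArg Subtype.val hs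
    have hss : (s : G) * s = 1 := hsqP s.2
    have hsb : (s : G) • D.base = D.base := D.smul_base.2 (D.P_le s.2)
    have e1 : ((s : G) * t * s) • D.base = p.1 := by
      rw [mul_smul, mul_smul, hsb, ← hs, smul_smul, hss, one_smul]
    have htt : (s : G) * t * s * ((s : G) * t * s) = 1 := by
      rw [show (s : G) * t * s * ((s : G) * t * s) = (s : G) * t * ((s : G) * s) * t * s by group, hss,
        mul_one, mul_assoc (s : G), ht, mul_one, hss]
    have e2 : ((s : G) * t * s) • p.1 = D.base := by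
      rw [← e1, smul_smul, htt, one_smul]
    set d := (s : G) * t * s * u with hd
    have hdK : d ∈ K := ⟨D.smul_base.1 (by rw [hd, mul_smul, hub, e2]),
      MulAction.mem_stabilizer_iff.2 (by rw [hd, mul_smul, hup, e1])⟩
    have hdu : u * d * u⁻¹ = d⁻¹ := by
      have hi : ((s : G) * t * s)⁻¹ = (s : G) * t * s := inv_eq_of_mul_eq_one_right htt
      rw [hd, mul_inv_rev ((s : G) * t * s) u, hi, hui]
      simp only [mul_assoc, huu, mul_one]
    refine ⟨s, s.2, d, hinvK d hdK hdu, ?_⟩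
    calc t = (s : G) * s * t * ((s : G) * s) := by rw [hss, one_mul, mul_one]
      _ = (s : G) * (d * u) * s := by
        rw [hd, mul_assoc ((s : G) * t * s) u u, huu, mul_one]; group
  -- the subgroup of order 56
  have hHP : ∀ {h s : G}, h ∈ D.H → s ∈ (D.P : Subgroup G) → h * s * h⁻¹ ∈ (D.P : Subgroup G) :=
    fun hh hs => D.conj_P hh hs
  let B : Subgroup G :=
    { carrier := {x | ∃ s ∈ (D.P : Subgroup G), ∃ a ∈ D.R, x = s * a}
      one_mem' := ⟨1, one_mem _, 1, one_mem _, (one_mul 1).symm⟩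
      mul_mem' := by
        rintro _ _ ⟨s, hs, a, ha, rfl⟩ ⟨s', hs', a', ha', rfl⟩
        exact ⟨s * (a * s' * a⁻¹), (D.P : Subgroup G).mul_mem hs (hHP (D.R_le ha) hs'), a * a',
          mul_mem ha ha', by group⟩
      inv_mem' := by
        rintro _ ⟨s, hs, a, ha, rfl⟩
        exact ⟨a⁻¹ * s⁻¹ * a⁻¹⁻¹, hHP (inv_mem (D.R_le ha)) ((D.P : Subgroup G).inv_mem hs), a⁻¹,
          inv_mem ha, by group⟩ }
  have hBH : B ≤ D.H := by
    rintro _ ⟨s, hs, a, ha, rfl⟩
    exact mul_mem (D.P_le hs) (D.R_le ha)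
  have hPB : (D.P : Subgroup G) ≤ B := fun s hs => ⟨s, hs, 1, one_mem _, (mul_one s).symm⟩
  have hRB : D.R ≤ B := fun a ha => ⟨1, one_mem _, a, ha, (one_mul a).symm⟩
  have hPR : ∀ {x : G}, x ∈ (D.P : Subgroup G) → x ∈ D.R → x = 1 := by
    intro x hx hx'
    by_contra h1
    have h7 := D.mem_R_cases hx' h1
    rw [hordP hx h1] at h7
    omega
  have hB : Nat.card B = 56 := by
    let f : (↥(D.P : Subgroup G)) × D.R → B := fun z => ⟨z.1 * z.2, z.1, z.1.2, z.2, z.2.2, rfl⟩
    have hf : Function.Bijective f := by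
      refine ⟨fun z w h => ?_, ?_⟩
      · have h : (z.1 : G) * z.2 = w.1 * w.2 := congrArg Subtype.val h
        have e : (w.1 : G)⁻¹ * z.1 = w.2 * (z.2 : G)⁻¹ := by
          rw [eq_mul_inv_iff_mul_eq, mul_assoc, h, inv_mul_cancel_left]
        have h1 := hPR ((D.P : Subgroup G).mul_mem ((D.P : Subgroup G).inv_mem w.1.2) z.1.2)
          (e ▸ D.R.mul_mem w.2.2 (D.R.inv_mem z.2.2))
        rw [inv_mul_eq_one] at h1
        rw [h1] at h
        exact Prod.ext (Subtype.ext h1.symm) (Subtype.ext (mul_left_cancel h))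
      · rintro ⟨_, s, hs, a, ha, rfl⟩
        exact ⟨(⟨s, hs⟩, ⟨a, ha⟩), rfl⟩
    rw [← Nat.card_eq_of_bijective f hf, Nat.card_prod, D.card_P card_four odd_three, D.card_R]
  -- the big cell
  let InM : G → Prop := fun g => g ∈ B ∨ ∃ k ∈ B, ∃ s ∈ (D.P : Subgroup G), g = k * u * s
  have hrev : ∀ {a : G}, a ∈ D.R → u * a = a⁻¹ * u := fun {a} ha => by
    rw [← huR a ha, inv_mul_cancel_right]
  have hmulR : ∀ {k s a : G}, k ∈ B → s ∈ (D.P : Subgroup G) → a ∈ D.R → InM (k * u * s * a) := by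
    intro k s a hk hs ha
    refine Or.inr ⟨k * a⁻¹, mul_mem hk (hRB (inv_mem ha)), a⁻¹ * s * a⁻¹⁻¹,
      hHP (inv_mem (D.R_le ha)) hs, ?_⟩
    calc k * u * s * a = k * (u * a) * (a⁻¹ * s * a) := by group
      _ = k * a⁻¹ * u * (a⁻¹ * s * a⁻¹⁻¹) := by rw [hrev ha]; group
  have hmulM : ∀ {g g' : G}, InM g → InM g' → InM (g * g') := by
    rintro g g' (hg | ⟨k, hk, s, hs, rfl⟩) (hg' | ⟨k', hk', s', hs', rfl⟩)
    · exact Or.inl (mul_mem hg hg')
    · exact Or.inr ⟨g * k', mul_mem hg hk', s', hs', by group⟩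
    · obtain ⟨q, hq, a, ha, rfl⟩ := hg'
      have h := hmulR hk ((D.P : Subgroup G).mul_mem hs hq) ha
      rwa [show k * u * (s * q) * a = k * u * s * (q * a) by group] at h
    · obtain ⟨q, hq, a, ha, hqa⟩ : s * k' ∈ B := mul_mem (hPB hs) hk'
      rw [show k * u * s * (k' * u * s') = k * u * (s * k') * u * s' by group, hqa,
        show k * u * (q * a) * u * s' = k * (u * q * u) * (u⁻¹ * (a * u)) * s' by group]
      rw [show u⁻¹ * (a * u) = a⁻¹ by
        rw [hui, ← mul_assoc, hrev ha, mul_assoc, huu, mul_one]]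
      by_cases hq1 : q = 1
      · left
        rw [hq1, mul_one, huu, mul_one]
        exact mul_mem (mul_mem hk (hRB (inv_mem ha))) (hPB hs')
      · obtain ⟨q', hq', a', ha', he⟩ := houtside (u * q * u) (by
          rw [show u * q * u * (u * q * u) = u * q * (u * u) * q * u by group, huu, mul_one,
            mul_assoc u q q, hsqP hq, mul_one, huu]) (fun h => by
          refine hq1 (hfree hq ?_)
          have h := D.smul_base.2 h
          rw [mul_smul, mul_smul, hub] at h
          calc q • p.1 = (u * u) • q • p.1 := by rw [huu, one_smul]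
            _ = u • D.base := by rw [mul_smul, h]
            _ = p.1 := hub)
        rw [he, show k * (q' * (a' * u) * q') * a⁻¹ * s' = k * q' * a' * u * q' * a⁻¹ * s' by group]
        rcases hmulR (k := k * q' * a') (mul_mem (mul_mem hk (hPB hq')) (hRB ha')) hq' (inv_mem ha) with
          h | ⟨k₂, hk₂, s₂, hs₂, e⟩
        · exact Or.inl (mul_mem h (hPB hs'))
        · exact Or.inr ⟨k₂, hk₂, s₂ * s', (D.P : Subgroup G).mul_mem hs₂ hs', by rw [e]; group⟩
  have huM : InM u := Or.inr ⟨1, one_mem _, 1, one_mem _, by group⟩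
  let M : Subgroup G :=
    { carrier := {g | InM g}
      one_mem' := Or.inl (one_mem _)
      mul_mem' := hmulM
      inv_mem' := by
        rintro g (hg | ⟨k, hk, s, hs, rfl⟩)
        · exact Or.inl (inv_mem hg)
        · show InM (k * u * s)⁻¹
          rw [show (k * u * s)⁻¹ = s⁻¹ * u⁻¹ * k⁻¹ by group, hui]
          exact hmulM (hmulM (Or.inl (inv_mem (hPB hs))) huM) (Or.inl (inv_mem hk)) }
  have hBM : B ≤ M := fun x hx => Or.inl hx
  have hcell : ∀ {k s : G}, k ∈ B → s ∈ (D.P : Subgroup G) → k * u * s ∉ D.H := fun {k s} hk hs h =>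
    huH ((D.H.mul_mem_cancel_left (hBH hk)).1 ((D.H.mul_mem_cancel_right (D.P_le hs)).1 h))
  have hMH : ∀ {x : G}, x ∈ M → x ∈ D.H → x ∈ B := by
    rintro x (hx | ⟨k, hk, s, hs, rfl⟩) hxH
    · exact hx
    · exact absurd hxH (hcell hk hs)
  have hM : Nat.card M = 504 := by
    let f : ↥B ⊕ (↥B × ↥(D.P : Subgroup G)) → ↥M := Sum.elim (fun k : ↥B => ⟨(k : G), hBM k.2⟩)
      fun w : ↥B × ↥(D.P : Subgroup G) => ⟨(w.1 : G) * u * w.2, Or.inr ⟨w.1, w.1.2, w.2, w.2.2, rfl⟩⟩
    have hf : Function.Bijective f := by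
      refine ⟨?_, ?_⟩
      · rintro (k | ⟨k, s⟩) (l | ⟨l, t⟩) h <;> have h := congrArg Subtype.val h
        · exact congrArg Sum.inl (Subtype.ext h)
        · exact absurd ((show (k : G) = (l : G) * u * (t : G) from h) ▸ hBH k.2) (hcell l.2 t.2)
        · exact absurd ((show (l : G) = (k : G) * u * (s : G) from h.symm) ▸ hBH l.2) (hcell k.2 s.2)
        · have h : (k : G) * u * s = l * u * t := h
          have e : (t : G) * (s : G)⁻¹ = u * ((l : G)⁻¹ * k) * u := by
            calc (t : G) * (s : G)⁻¹ = u⁻¹ * (l : G)⁻¹ * ((l : G) * u * t) * (s : G)⁻¹ := by group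
              _ = u * ((l : G)⁻¹ * k) * u := by rw [← h, hui]; group
          have hfix : ((t : G) * (s : G)⁻¹) • p.1 = p.1 := by
            rw [e, mul_smul, mul_smul, hup, D.smul_base.2 (hBH (mul_mem (inv_mem l.2) k.2)), hub]
          have hts := mul_inv_eq_one.1 (hfree ((D.P : Subgroup G).mul_mem t.2
            ((D.P : Subgroup G).inv_mem s.2)) hfix)
          rw [hts] at h
          exact congrArg Sum.inr (Prod.ext (Subtype.ext (mul_right_cancel (mul_right_cancel h)))
            (Subtype.ext hts.symm))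
      · rintro ⟨x, hx | ⟨k, hk, s, hs, rfl⟩⟩
        · exact ⟨Sum.inl ⟨x, hx⟩, rfl⟩
        · exact ⟨Sum.inr (⟨k, hk⟩, ⟨s, hs⟩), rfl⟩
    rw [← Nat.card_eq_of_bijective f hf, Nat.card_sum, Nat.card_prod, hB, D.card_P card_four odd_three]
  have hinvM : ∀ t : G, t * t = 1 → t ∈ M := by
    intro t ht
    by_cases htH : t ∈ D.H
    · exact hBM (hPB (D.invol_mem_P htH ht))
    · obtain ⟨s, hs, a, ha, rfl⟩ := houtside t ht htH
      exact Or.inr ⟨s * a, mul_mem (hPB hs) (hRB ha), s, hs, by group⟩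
  -- it is normal, being generated by the involutions
  have hgen : ∀ L : Subgroup G, (∀ t : G, t * t = 1 → t ∈ L) →
      (∀ x ∈ M, ∀ y ∈ L, x * y * x⁻¹ ∈ L) → M ≤ L := by
    intro L hL hLn
    have hR : D.R ≤ L := by
      refine zpowers_le.2 ?_
      have h := L.mul_mem (hLn D.r (hBM (hRB (mem_zpowers _))) u (hL u huu)) (hL u huu)
      rw [show D.r * u * D.r⁻¹ * u = D.r * (u * D.r⁻¹ * u) by group] at h
      have e : u * D.r⁻¹ * u = D.r := by
        have := huR D.r⁻¹ (inv_mem (mem_zpowers _))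
        rwa [hui, inv_inv] at this
      rw [e] at h
      have : (D.r * D.r) ^ 4 = D.r := by
        rw [← pow_two, ← pow_mul, show 2 * 4 = 7 + 1 from rfl, pow_succ, ← D.r_order, pow_orderOf_eq_one,
          one_mul]
      exact this ▸ pow_mem h 4
    have hBL : B ≤ L := by
      rintro _ ⟨s, hs, a, ha, rfl⟩
      exact mul_mem (hL s (hsqP hs)) (hR ha)
    rintro g (hg | ⟨k, hk, s, hs, rfl⟩)
    · exact hBL hg
    · exact mul_mem (mul_mem (hBL hk) (hL u huu)) (hL s (hsqP hs))
  set L₀ := closure {t : G | t * t = 1}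
  have hL₀M : L₀ ≤ M := (closure_le _).2 fun t ht => hinvM t ht
  have hL₀conj : ∀ g : G, ∀ y ∈ L₀, g * y * g⁻¹ ∈ L₀ := by
    intro g y hy
    have hle : L₀ ≤ L₀.comap (MulAut.conj g).toMonoidHom := (closure_le _).2 fun t ht => subset_closure
      (show g * t * g⁻¹ * (g * t * g⁻¹) = 1 by
        rw [show g * t * g⁻¹ * (g * t * g⁻¹) = g * (t * t) * g⁻¹ by group, show t * t = 1 from ht]
        group)
    exact hle hy
  have hML₀ : M = L₀ := le_antisymm (hgen L₀ (fun t ht => subset_closure ht) fun x _ y hy =>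
    hL₀conj x y hy) hL₀M
  haveI hMn : M.Normal := ⟨fun x hx g => by rw [hML₀] at hx ⊢; exact hL₀conj g x hx⟩
  -- centralizers in `M`
  have hcentM : ∀ {x s : G}, x ∈ M → s ∈ (D.P : Subgroup G) → s ≠ 1 → x * s = s * x →
      x ∈ (D.P : Subgroup G) := by
    intro x s hx hs hs1 hxs
    have hxH := D.cent_invol_le (D.P_le hs) (hsqP hs) hs1 hxs
    obtain ⟨q, hq, a, ha, rfl⟩ := hMH hx hxH
    suffices h : a = 1 by rw [h, mul_one]; exact hq
    by_contra ha1
    refine hs1 (D.eq_one_of_seven (D.mem_R_cases ha ha1) (hsqP hs) ?_)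
    have hqs := D.comm_P small_four card_four odd_three hq hs
    apply mul_left_cancel (a := q)
    calc q * (a * s) = q * a * s := (mul_assoc q a s).symm
      _ = s * (q * a) := hxs
      _ = q * s * a := by rw [← mul_assoc, ← hqs]
      _ = q * (s * a) := mul_assoc q s a
  have hPM : (D.P : Subgroup G) ≤ M := hPB.trans hBM
  -- `M` is simple
  haveI : Nontrivial M := Finite.one_lt_card_iff_nontrivial.1 (by omega)
  haveI hsimple : IsSimpleGroup M := by
    refine ⟨fun L hL => ?_⟩
    by_cases hex : ∃ s : M, s ∈ L ∧ (s : G) ∈ (D.P : Subgroup G) ∧ s ≠ 1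
    · right
      obtain ⟨s, hsL, hsP, hs1⟩ := hex
      have hs1' : (s : G) ≠ 1 := fun e => hs1 (Subtype.ext e)
      set L' := L.map M.subtype
      have hL' : ∀ x ∈ M, ∀ y ∈ L', x * y * x⁻¹ ∈ L' := by
        rintro x hx _ ⟨y, hy, rfl⟩
        exact ⟨⟨x, hx⟩ * y * ⟨x, hx⟩⁻¹, hL.conj_mem y hy _, rfl⟩
      let f : D.R → {z : (D.P : Subgroup G) // z ≠ 1} := fun a =>
        ⟨⟨(a : G) * s * (a : G)⁻¹, hHP (D.R_le a.2) hsP⟩, fun e => hs1' (by
          have e : (a : G) * s * (a : G)⁻¹ = 1 := congrArg Subtype.val e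
          calc (s : G) = (a : G)⁻¹ * ((a : G) * s * (a : G)⁻¹) * a := by group
            _ = 1 := by rw [e]; group)⟩
      haveI := Fintype.ofFinite (D.P : Subgroup G)
      have hf : Function.Bijective f := (Nat.bijective_iff_injective_and_card f).2 ⟨fun a b h => by
          have h : (a : G) * s * (a : G)⁻¹ = b * s * (b : G)⁻¹ :=
            congrArg (fun z : {z : (D.P : Subgroup G) // z ≠ 1} => ((z.1 : G))) h
          by_contra hab
          refine hs1' (D.eq_one_of_seven (D.mem_R_cases (D.R.mul_mem (D.R.inv_mem b.2) a.2)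
            fun e => hab (Subtype.ext (inv_mul_eq_one.1 e).symm)) (hsqP hsP) ?_)
          calc (b : G)⁻¹ * a * s = (b : G)⁻¹ * ((a : G) * s * (a : G)⁻¹) * a := by group
            _ = (b : G)⁻¹ * ((b : G) * s * (b : G)⁻¹) * a := by rw [h]
            _ = (s : G) * ((b : G)⁻¹ * a) := by group,
        by rw [D.card_R, Nat.card_eq_fintype_card, Fintype.card_subtype_compl, Fintype.card_subtype_eq,
          ← Nat.card_eq_fintype_card, D.card_P card_four odd_three]⟩
      have hPL : (D.P : Subgroup G) ≤ L' := by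
        intro z hz
        by_cases hz1 : z = 1
        · rw [hz1]; exact one_mem _
        obtain ⟨a, ha⟩ := hf.2 ⟨⟨z, hz⟩, fun e => hz1 (congrArg Subtype.val e)⟩
        have ha : (a : G) * s * (a : G)⁻¹ = z :=
          congrArg (fun w : {w : (D.P : Subgroup G) // w ≠ 1} => ((w.1 : G))) ha
        rw [← ha]
        exact hL' _ (hBM (hRB a.2)) _ ⟨s, hsL, rfl⟩
      have hall : ∀ t : G, t * t = 1 → t ∈ L' := by
        intro t ht
        by_cases htH : t ∈ D.H
        · exact hPL (D.invol_mem_P htH ht)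
        have ht2 : orderOf t = 2 :=
          orderOf_eq_prime (by rw [pow_two, ht]) fun e => htH (e ▸ one_mem _)
        obtain ⟨i, hi2, hi, -⟩ := SEPairs.exists_middle D.hJ ht2
          (SEPairs.odd_of_fixed_ne hse D.hJ ht2 (D.smul_base.2 (D.P_le D.hJP))
            fun e => htH (D.smul_base.1 e))
        rw [← hi]
        exact hL' i (hinvM i (SEPairs.sq_one hi2)) _ (hPL D.hJP)
      rw [eq_top_iff]
      rintro x -
      obtain ⟨y, hy, e⟩ := hgen L' hall hL' x.2
      exact (Subtype.ext e : y = x) ▸ hy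
    · left
      simp only [not_exists, not_and, not_not] at hex
      obtain ⟨a, ha, ha1⟩ := D.exists_ne_one card_four odd_three
      have hJa : D.J * a ≠ 1 := fun e => D.hJT (by
        rw [eq_inv_of_mul_eq_one_left e]; exact inv_mem ha.2)
      have hfix : ∀ z : M, (z : G) ∈ (D.P : Subgroup G) → z ≠ 1 →
          ∀ x ∈ L, x * z = z * x → x = 1 := fun z hz hz1 x hx hxz =>
        hex x hx (hcentM x.2 hz (fun e => hz1 (Subtype.ext e)) (congrArg Subtype.val hxz))
      exact eq_bot_of_four_fixed (a := (⟨D.J, hPM D.hJP⟩ : M)) (b := ⟨a, hPM ha.1⟩)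
        (Subtype.ext D.sqJ) (Subtype.ext (hsqP ha.1)) (Subtype.ext (D.comm_J ha).symm)
        (fun x hx => hL.conj_mem x hx _) (fun x hx => hL.conj_mem x hx _)
        (hfix _ D.hJP fun e => D.J_ne (congrArg Subtype.val e))
        (hfix _ ha.1 fun e => ha1 (congrArg Subtype.val e))
        (hfix _ ((D.P : Subgroup G).mul_mem D.hJP ha.1) fun e => hJa (congrArg Subtype.val e))
  -- the data of a projective line
  have hrM : D.r ∈ M := hBM (hRB (mem_zpowers _))
  let data : ProjLineEven.Data M 8 :=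
    { S := (D.P : Subgroup G).subgroupOf M
      y := ⟨D.r, hrM⟩
      w := ⟨u, huM⟩
      four_le := by norm_num
      cardG := by rw [hM]
      cardS := by rw [Nat.card_congr (subgroupOfEquivOfLe hPM).toEquiv, D.card_P card_four odd_three]
      sq := fun s hs => Subtype.ext (hsqP hs)
      cent := fun s hs hs1 g hg => hcentM g.2 hs (fun e => hs1 (Subtype.ext e)) (congrArg Subtype.val hg)
      cardN := by
        rw [← subgroupOf_normalizer_eq hPM]
        show Nat.card (D.H.subgroupOf M) = _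
        rw [← inf_subgroupOf_right, Nat.card_congr (subgroupOfEquivOfLe inf_le_right).toEquiv,
          show D.H ⊓ M = B from le_antisymm (fun x hx => hMH hx.2 hx.1) (le_inf hBH hBM), hB]
      ordy := by rw [orderOf_mk, D.r_order]
      memy := by
        rw [← subgroupOf_normalizer_eq hPM]
        exact D.r_mem
      inv := Subtype.ext hur }
  let F := GaloisField 2 3
  letI : Fintype F := Fintype.ofFinite F
  have hF : Fintype.card F = 8 := by
    rw [← Nat.card_eq_fintype_card, GaloisField.card 2 3 (by norm_num)]; rfl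
  refine ⟨F, inferInstance, inferInstance, hF, ?_⟩
  have hP2 : Nat.card (Matrix.ProjectiveSpecialLinearGroup (Fin 2) F) = 504 := by
    have h1 := Classical.Dickson.card_P2 (F := F)
    rw [hF, show Nat.gcd 2 (8 - 1) = 1 from rfl, mul_one] at h1
    rw [h1]; rfl
  haveI : Finite (Matrix.ProjectiveSpecialLinearGroup (Fin 2) F) := Nat.finite_of_card_ne_zero (by omega)
  haveI : IsSimpleGroup (Matrix.ProjectiveSpecialLinearGroup (Fin 2) F) :=
    Matrix.ProjectiveSpecialLinearGroup.rank_two_simple (F := F)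
      (by rw [Nat.card_eq_fintype_card]; omega)
  obtain ⟨data'⟩ := OrderFiveHundredFour.exists_data hP2
  obtain ⟨e⟩ := ProjLineEven.iso data data' F hF
  let ψ : G →* MulAut (Matrix.ProjectiveSpecialLinearGroup (Fin 2) F) :=
    (MulAut.congr e).toMonoidHom.comp MulAut.conjNormal
  have hψ : Function.Injective ψ := by
    rw [injective_iff_map_eq_one]
    intro x hx
    have hx : (MulAut.conjNormal x : MulAut M) = 1 :=
      (MulAut.congr e).injective (hx.trans (map_one _).symm)
    have hcomm : ∀ m ∈ M, x * m = m * x := fun m hm => by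
      have h := congrArg Subtype.val (DFunLike.congr_fun hx (⟨m, hm⟩ : M))
      rw [MulAut.conjNormal_apply] at h
      exact mul_inv_eq_iff_eq_mul.1 h
    have hxP : x ∈ (D.P : Subgroup G) :=
      D.cent_P small_four card_four odd_three fun y hy => hcomm y (hPM hy)
    exact D.eq_one_of_seven D.r_order (hsqP hxP) (hcomm D.r hrM).symm
  haveI : Finite (MulAut (Matrix.ProjectiveSpecialLinearGroup (Fin 2) F)) :=
    Finite.of_injective (fun α => (α : Matrix.ProjectiveSpecialLinearGroup (Fin 2) F →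
      Matrix.ProjectiveSpecialLinearGroup (Fin 2) F)) DFunLike.coe_injective
  have hle := Nat.card_le_card_of_injective ψ hψ
  have hge := card_mulAut_le (F := F) hF
  rw [D.card_G' hns] at hle
  exact ⟨MulEquiv.ofBijective ψ ((Nat.bijective_iff_injective_and_card ψ).2 ⟨hψ, by
    rw [D.card_G' hns]; omega⟩)⟩

end Ctx

end Cfsg.Agent.Lead.JankoTwoAlt
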