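import Cfsg.Agent.Lib.Lead.JankoTwoAlt.Small
import Cfsg.Agent.S0223
import Cfsg.Agent.Lib.Fusion.StronglyEmbeddedPairs
import Mathlib.GroupTheory.Solvable
import Mathlib.GroupTheory.Nilpotent
import Mathlib.GroupTheory.SpecificGroups.Cyclic

/-!
# Degree four: a strongly embedded normalizer and the order of the group
-/

set_option autoImplicit false
set_option linter.style.haveILetI false

namespace Cfsg.Agent.Lead.JankoTwoAlt

open Subgroup Cfsg
open Cfsg.Agent.Fusion

universe u v

variable {G : Type u} [Group G] [Finite G]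

omit [Finite G] in
theorem card_eq_mul_of_fibres (K L : Subgroup G) (hL : L ≤ K) {X : Type v} (f : K → X)
    (hf : ∀ a b : K, f a = f b ↔ (a : G)⁻¹ * b ∈ L) (hs : Function.Surjective f) :
    Nat.card K = Nat.card X * Nat.card L := by
  have hrel : ∀ a b : K, (QuotientGroup.mk a : K ⧸ L.subgroupOf K) = QuotientGroup.mk b ↔ f a = f b :=
    fun a b => by rw [QuotientGroup.eq, hf, mem_subgroupOf]; rfl
  let φ : (K ⧸ L.subgroupOf K) → X := fun q => f q.out
  have hφ : Function.Bijective φ := by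
    refine ⟨fun q q' h => ?_, fun x => ?_⟩
    · rw [← Quotient.out_eq q, ← Quotient.out_eq q']
      exact (hrel _ _).2 h
    · obtain ⟨a, rfl⟩ := hs x
      exact ⟨QuotientGroup.mk a, (hrel _ _).1 (Quotient.out_eq _)⟩
  rw [card_eq_card_quotient_mul_card_subgroup (L.subgroupOf K), Nat.card_eq_of_bijective φ hφ,
    Nat.card_congr (subgroupOfEquivOfLe hL).toEquiv]

/-- A group whose order divides 21 has at most one subgroup of order seven. -/
theorem seven_unique {A B K : Subgroup G} (hA : A ≤ K) (hB : B ≤ K) (hA7 : Nat.card A = 7)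
    (hB7 : Nat.card B = 7) (hK : Nat.card K ≤ 21) : A = B := by
  by_contra hne
  haveI : Fact (Nat.Prime 7) := ⟨by norm_num⟩
  have hAB : A ⊓ B = ⊥ := by
    have h := card_dvd_of_le (inf_le_left : A ⊓ B ≤ A)
    rw [hA7] at h
    rcases (Nat.dvd_prime (by norm_num : Nat.Prime 7)).1 h with h1 | h1
    · exact card_eq_one.1 h1
    · exfalso
      have e1 := eq_of_le_of_card_ge (inf_le_left : A ⊓ B ≤ A) (by rw [h1, hA7])
      have e2 := eq_of_le_of_card_ge (inf_le_right : A ⊓ B ≤ B) (by rw [h1, hB7])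
      exact hne (e1.symm.trans e2)
  have hle : Nat.card (A × B) ≤ Nat.card K := Nat.card_le_card_of_injective
    (fun p : A × B => (⟨(p.1 : G) * p.2, mul_mem (hA p.1.2) (hB p.2.2)⟩ : K)) fun p q h => by
      have h : (p.1 : G) * p.2 = q.1 * q.2 := congrArg Subtype.val h
      have hm : (q.1 : G)⁻¹ * p.1 = q.2 * (p.2 : G)⁻¹ := by
        rw [eq_mul_inv_iff_mul_eq, mul_assoc, h, inv_mul_cancel_left]
      have h1 : (q.1 : G)⁻¹ * p.1 ∈ A ⊓ B :=
        ⟨A.mul_mem (A.inv_mem q.1.2) p.1.2, hm ▸ B.mul_mem q.2.2 (B.inv_mem p.2.2)⟩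
      rw [hAB, mem_bot, inv_mul_eq_one] at h1
      rw [← h1] at h
      exact Prod.ext (Subtype.ext h1.symm) (Subtype.ext (mul_left_cancel h))
  rw [Nat.card_prod, hA7, hB7] at hle
  omega

theorem card_four : Nat.card (alternatingGroup (Fin 4)) = 4 * 3 := by
  rw [nat_card_alternatingGroup, Nat.card_fin]; rfl

theorem odd_three : Odd 3 := by decide

namespace Ctx

variable (D : Ctx G 4)

/-- the normalizer of the Sylow subgroup -/
def H : Subgroup G := normalizer ((D.P : Subgroup G) : Set G)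

theorem P_le : (D.P : Subgroup G) ≤ D.H := le_normalizer

theorem cent_le {x : G} (hx : x * D.J = D.J * x) : x ∈ D.H := by
  obtain ⟨a, ha, ha1⟩ := D.exists_ne_one card_four odd_three
  have hT : ∀ t ∈ D.T, t ∈ D.H := by
    intro t ht
    have hS : ∀ s ∈ D.S₀, t * s * t⁻¹ ∈ D.S₀ := by
      intro s hs
      have hm : t * s * t⁻¹ ∈ D.T := mul_mem (mul_mem ht hs.2) (inv_mem ht)
      obtain ⟨a', ha'⟩ := D.exists_emb ha.2
      obtain ⟨c', hc'⟩ := D.exists_emb hm
      refine D.cent_S₀ small_four card_four odd_three ha ha1 hm ?_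
      rw [← hc', ← ha', ← map_mul, ← map_mul, four_commute c' a' (D.emb_inj ?_) (D.emb_inj ?_)]
      · rw [map_mul, map_one, hc', show t * s * t⁻¹ * (t * s * t⁻¹) = t * (s * s) * t⁻¹ by group,
          D.sq_S₀ small_four card_four odd_three hs]
        group
      · rw [map_mul, map_one, ha', D.sq_S₀ small_four card_four odd_three ha]
    refine mem_normalizer_iff_map_conj_eq.2 (eq_of_le_of_card_ge ?_ ?_)
    · rintro _ ⟨y, hy, rfl⟩
      show t * y * t⁻¹ ∈ (D.P : Subgroup G)
      rcases D.mem_S_cases hy with h | h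
      · exact (hS y h).1
      · have h' := mul_mem D.hJP (hS _ h).1
        rwa [show D.J * (t * (D.J * y) * t⁻¹) = D.J * (t * D.J) * y * t⁻¹ by group, D.comm t ht,
          D.J_mul_J] at h'
    · rw [card_map_of_injective (MulAut.conj t).injective]
  rcases D.split x hx with h | h
  · exact hT x h
  · simpa [D.J_mul_J] using mul_mem (D.P_le D.hJP) (hT _ h)

theorem invol_mem_P {x : G} (hx : x ∈ D.H) (h2 : x * x = 1) : x ∈ (D.P : Subgroup G) := by
  haveI : Fact (Nat.Prime 2) := ⟨Nat.prime_two⟩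
  have hx2 : IsPGroup 2 (zpowers x) := by
    by_cases h1 : x = 1
    · exact h1 ▸ by rw [zpowers_one_eq_bot]; exact IsPGroup.of_bot
    · exact IsPGroup.of_card (n := 1) (by
        rw [Nat.card_zpowers, orderOf_eq_prime (by rw [pow_two, h2]) h1, pow_one])
  have hmax : zpowers x ⊔ (D.P : Subgroup G) = D.P :=
    D.P.3 (hx2.to_sup_of_normal_right' (hK := D.P.2) (zpowers_le.2 hx)) le_sup_right
  exact hmax.le (mem_sup_left (mem_zpowers x))

theorem exists_conj_J_H {x : G} (hx : x ∈ D.H) (h2 : x * x = 1) (h1 : x ≠ 1) :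
    ∃ n ∈ D.H, n * D.J * n⁻¹ = x :=
  D.orbit_P small_four card_four odd_three (D.invol_mem_P hx h2) h1

theorem cent_invol_le {x c : G} (hx : x ∈ D.H) (h2 : x * x = 1) (h1 : x ≠ 1) (hc : c * x = x * c) :
    c ∈ D.H := by
  obtain ⟨n, hn, rfl⟩ := D.exists_conj_J_H hx h2 h1
  have := mul_mem (mul_mem hn (D.cent_le (x := n⁻¹ * c * n) (by
    calc n⁻¹ * c * n * D.J = n⁻¹ * (c * (n * D.J * n⁻¹)) * n := by group
      _ = n⁻¹ * (n * D.J * n⁻¹ * c) * n := by rw [hc]
      _ = D.J * (n⁻¹ * c * n) := by group))) (inv_mem hn)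
  rwa [show n * (n⁻¹ * c * n) * n⁻¹ = c by group] at this

include D in
theorem card_cent' {x : G} (h2 : x * x = 1) (h1 : x ≠ 1) : Nat.card (centralizer ({x} : Set G)) = 24 := by
  obtain ⟨g, rfl⟩ := D.exists_conj_J small_four card_four odd_three (orderOf_eq_prime (by rw [pow_two, h2]) h1)
  have hset : centralizer ({g * D.J * g⁻¹} : Set G) =
      (centralizer ({D.J} : Set G)).map (MulAut.conj g).toMonoidHom := by
    ext y
    rw [mem_centralizer_singleton_iff, mem_map_equiv, MulAut.conj_symm_apply, mem_centralizer_singleton_iff]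
    constructor
    · intro h
      calc g⁻¹ * y * g * D.J = g⁻¹ * (y * (g * D.J * g⁻¹)) * g := by group
        _ = g⁻¹ * (g * D.J * g⁻¹ * y) * g := by rw [h]
        _ = D.J * (g⁻¹ * y * g) := by group
    · intro h
      calc y * (g * D.J * g⁻¹) = g * (g⁻¹ * y * g * D.J) * g⁻¹ := by group
        _ = g * (D.J * (g⁻¹ * y * g)) * g⁻¹ := by rw [h]
        _ = g * D.J * g⁻¹ * y := by group
  rw [hset, card_map_of_injective (MulAut.conj g).injective, D.card_cent, card_four]

include D in
/-- A subgroup of order divisible by seven meets no involution centralizer. -/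
theorem eq_one_of_seven {r x : G} (hr : orderOf r = 7) (h2 : x * x = 1) (hc : r * x = x * r) : x = 1 := by
  by_contra h1
  have h := orderOf_dvd_natCard (⟨r, mem_centralizer_singleton_iff.2 hc⟩ : centralizer ({x} : Set G))
  rw [orderOf_mk, hr, D.card_cent' h2 h1] at h
  norm_num at h

theorem card_H_of_trans {K : Subgroup G} (hK : K ≤ D.H)
    (ht : ∀ x ∈ (D.P : Subgroup G), x ≠ 1 → ∃ k ∈ K, k * D.J * k⁻¹ = x) :
    Nat.card K = 7 * Nat.card ↥(K ⊓ centralizer ({D.J} : Set G)) := by
  let f : K → {x : (D.P : Subgroup G) // x ≠ 1} := fun k =>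
    ⟨⟨(k : G) * D.J * (k : G)⁻¹, D.conj_P (hK k.2) D.hJP⟩, fun e => D.J_ne (by
      have e : (k : G) * D.J * (k : G)⁻¹ = 1 := congrArg Subtype.val e
      calc D.J = (k : G)⁻¹ * ((k : G) * D.J * (k : G)⁻¹) * k := by group
        _ = 1 := by rw [e]; group)⟩
  have hX : Nat.card {x : (D.P : Subgroup G) // x ≠ 1} = 7 := by
    classical
    haveI := Fintype.ofFinite (D.P : Subgroup G)
    rw [Nat.card_eq_fintype_card, Fintype.card_subtype_compl, Fintype.card_subtype_eq,
      ← Nat.card_eq_fintype_card, D.card_P card_four odd_three]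
  rw [card_eq_mul_of_fibres K (K ⊓ centralizer ({D.J} : Set G)) inf_le_left f ?_ ?_, hX]
  · intro a b
    rw [mem_inf, mem_centralizer_singleton_iff]
    simp only [f, Subtype.ext_iff, mul_mem (inv_mem a.2) b.2, true_and]
    constructor
    · intro h
      calc (a : G)⁻¹ * b * D.J = (a : G)⁻¹ * ((b : G) * D.J * (b : G)⁻¹) * b := by group
        _ = (a : G)⁻¹ * ((a : G) * D.J * (a : G)⁻¹) * b := by rw [h]
        _ = D.J * ((a : G)⁻¹ * b) := by group
    · intro h
      calc (a : G) * D.J * (a : G)⁻¹ = (a : G) * (D.J * ((a : G)⁻¹ * b)) * (b : G)⁻¹ := by group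
        _ = (a : G) * ((a : G)⁻¹ * b * D.J) * (b : G)⁻¹ := by rw [h]
        _ = (b : G) * D.J * (b : G)⁻¹ := by group
  · rintro ⟨⟨x, hx⟩, hx1⟩
    obtain ⟨k, hk, he⟩ := ht x hx (fun e => hx1 (Subtype.ext e))
    exact ⟨⟨k, hk⟩, Subtype.ext (Subtype.ext he)⟩

theorem card_H : Nat.card D.H = 168 := by
  rw [D.card_H_of_trans le_rfl fun x hx h1 => D.orbit_P small_four card_four odd_three hx h1,
    inf_eq_right.2 fun x hx => D.cent_le (mem_centralizer_singleton_iff.1 hx), D.card_cent, card_four]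

theorem H_ne_top (hns : ¬ Group.IsSolvable G) : D.H ≠ ⊤ := by
  intro htop
  haveI : (D.P : Subgroup G).Normal := normalizer_eq_top_iff.1 htop
  haveI : Fact (Nat.Prime 2) := ⟨Nat.prime_two⟩
  haveI : Fact (Nat.Prime 3) := ⟨Nat.prime_three⟩
  haveI : Fact (Nat.Prime 7) := ⟨by norm_num⟩
  set Q := G ⧸ (D.P : Subgroup G)
  have hQ : Nat.card Q = 21 := by
    have h := card_eq_card_quotient_mul_card_subgroup (D.P : Subgroup G)
    have hG : Nat.card G = 168 := by rw [← D.card_H, htop, card_top]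
    rw [hG, D.card_P card_four odd_three] at h
    change 168 = Nat.card Q * 8 at h
    omega
  obtain ⟨A⟩ : Nonempty (Sylow 7 Q) := inferInstance
  have hA : Nat.card A = 7 := by
    rw [A.card_eq_multiplicity, hQ, show (21 : ℕ) = 3 * 7 from rfl, Nat.factorization_mul (by norm_num)
      (by norm_num), Finsupp.add_apply, Nat.Prime.factorization_self (by norm_num),
      Nat.factorization_eq_zero_of_not_dvd (by norm_num)]
    rfl
  have hn : Nat.card (Sylow 7 Q) = 1 := by
    have hd := A.card_dvd_index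
    have hi : (A : Subgroup Q).index = 3 := by
      have := (A : Subgroup Q).card_mul_index
      rw [hA, hQ] at this
      omega
    rw [hi] at hd
    rcases (Nat.dvd_prime Nat.prime_three).1 hd with h | h
    · exact h
    · exfalso
      have := card_sylow_modEq_one 7 Q
      rw [h] at this
      exact absurd this (by decide)
  haveI : Subsingleton (Sylow 7 Q) := (Nat.card_eq_one_iff_unique.1 hn).1
  haveI : (A : Subgroup Q).Normal := Sylow.normal_of_subsingleton A
  haveI : Group.IsNilpotent (A : Subgroup Q) := A.2.isNilpotent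
  haveI : Group.IsNilpotent (Q ⧸ (A : Subgroup Q)) := by
    refine (IsPGroup.of_card (p := 3) (n := 1) ?_).isNilpotent
    rw [← index_eq_card, pow_one]
    have := (A : Subgroup Q).card_mul_index
    rw [hA, hQ] at this
    omega
  haveI : Group.IsNilpotent (D.P : Subgroup G) := D.P.2.isNilpotent
  have hQs : Group.IsSolvable Q :=
    Group.isSolvable_of_ker_le_range (A : Subgroup Q).subtype (QuotientGroup.mk' (A : Subgroup Q))
      (by rw [QuotientGroup.ker_mk', range_subtype])
  exact hns (Group.isSolvable_of_ker_le_range (D.P : Subgroup G).subtype (QuotientGroup.mk' (D.P : Subgroup G))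
    (by rw [QuotientGroup.ker_mk', range_subtype]))

variable (hns : ¬ Group.IsSolvable G)

include hns in
theorem stronglyEmbedded : IsStronglyEmbedded D.H := by
  refine (S0223.result D.H (D.H_ne_top hns) (by rw [D.card_H]; decide)).2 ⟨?_, ?_⟩
  · intro t ht ho c hc
    exact D.cent_invol_le ht (by rw [← pow_two, ← ho]; exact pow_orderOf_eq_one t)
      (fun e => by rw [e, orderOf_one] at ho; omega) (mem_centralizer_singleton_iff.1 hc)
  · intro t ht s hs ho ho' _
    obtain ⟨n, hn, hnt⟩ := D.exists_conj_J_H ht (by rw [← pow_two, ← ho]; exact pow_orderOf_eq_one t)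
      (fun e => by rw [e, orderOf_one] at ho; omega)
    obtain ⟨l, hl, hls⟩ := D.exists_conj_J_H hs (by rw [← pow_two, ← ho']; exact pow_orderOf_eq_one s)
      (fun e => by rw [e, orderOf_one] at ho'; omega)
    exact ⟨l * n⁻¹, mul_mem hl (inv_mem hn), by rw [← hnt, ← hls]; group⟩

/-- the point fixed by the normalizer -/
def base : G ⧸ D.H := QuotientGroup.mk 1

omit [Finite G] in
theorem smul_base {x : G} : x • D.base = D.base ↔ x ∈ D.H := by
  rw [base, SEPairs.smul_mk_eq_iff]; simp

include hns in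
theorem pair_data {p : G ⧸ D.H} (hp : p ≠ D.base) :
    ∃ A : Subgroup G, Nat.card A = 7 ∧ (∀ a ∈ A, a • D.base = D.base ∧ a • p = p) ∧
      ∀ B : Subgroup G, Nat.card B = 7 → (∀ b ∈ B, b • D.base = D.base ∧ b • p = p) → B = A := by
  haveI : Fact (Nat.Prime 7) := ⟨by norm_num⟩
  haveI : Fact (Nat.Prime 2) := ⟨Nat.prime_two⟩
  have hse := D.stronglyEmbedded hns
  set K := MulAction.stabilizer G D.base ⊓ MulAction.stabilizer G p
  have hmem : ∀ x, x ∈ K ↔ x • D.base = D.base ∧ x • p = p := fun x => Iff.rfl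
  have hKH : K ≤ D.H := fun x hx => D.smul_base.1 ((hmem x).1 hx).1
  have hJb : D.J • D.base = D.base := D.smul_base.2 (D.P_le D.hJP)
  have htrans : ∀ x ∈ (D.P : Subgroup G), x ≠ 1 → ∃ k ∈ K, k * D.J * k⁻¹ = x := by
    intro x hx h1
    obtain ⟨d, hd1, hd2, hd⟩ := SEPairs.pair_transitive hse hp D.hJ hJb
      (orderOf_eq_prime (by rw [pow_two]; exact D.sq_P small_four card_four odd_three hx) h1)
      (D.smul_base.2 (D.P_le hx))
    exact ⟨d, (hmem d).2 ⟨hd1, hd2⟩, hd⟩
  have h7 : 7 ∣ Nat.card K := ⟨_, D.card_H_of_trans hKH htrans⟩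
  have hodd : ¬ 2 ∣ Nat.card K := by
    intro h
    obtain ⟨⟨z, hz⟩, hzo⟩ := exists_prime_orderOf_dvd_card' 2 h
    rw [orderOf_mk] at hzo
    exact hp (SEPairs.fixed_unique hse hzo ((hmem z).1 hz).1 ((hmem z).1 hz).2).symm
  have hle : Nat.card K ≤ 21 := by
    have hd : Nat.card K ∣ 168 := D.card_H ▸ card_dvd_of_le hKH
    have hle := Nat.le_of_dvd (by norm_num) hd
    obtain ⟨c, hc⟩ := h7
    rw [hc] at hd hodd hle ⊢
    have : c ≤ 24 := by omega
    interval_cases c <;> omega
  obtain ⟨⟨a, ha⟩, hao⟩ := exists_prime_orderOf_dvd_card' 7 h7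
  rw [orderOf_mk] at hao
  refine ⟨zpowers a, by rw [Nat.card_zpowers, hao], fun b hb => (hmem b).1 (zpowers_le.2 ha hb),
    fun B hB hBf => seven_unique (fun b hb => (hmem b).2 (hBf b hb)) (zpowers_le.2 ha) hB
      (by rw [Nat.card_zpowers, hao]) hle⟩

/-- an element of order seven of the normalizer -/
noncomputable def r : G := ((exists_prime_orderOf_dvd_card' (G := D.H) (hp := ⟨by norm_num⟩) 7
  (by rw [D.card_H]; norm_num)).choose : D.H)

theorem r_mem : D.r ∈ D.H := SetLike.coe_mem _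

theorem r_order : orderOf D.r = 7 := by
  rw [r, orderOf_coe]
  exact (exists_prime_orderOf_dvd_card' (G := D.H) (hp := ⟨by norm_num⟩) 7
    (by rw [D.card_H]; norm_num)).choose_spec

/-- the chosen subgroup of order seven -/
noncomputable def R : Subgroup G := zpowers D.r

theorem card_R : Nat.card D.R = 7 := by rw [R, Nat.card_zpowers, D.r_order]

theorem R_le : D.R ≤ D.H := zpowers_le.2 D.r_mem

theorem mem_R_cases {x : G} (hx : x ∈ D.R) (h1 : x ≠ 1) : orderOf x = 7 := by
  have h := orderOf_dvd_natCard (⟨x, hx⟩ : D.R)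
  rw [orderOf_mk, D.card_R] at h
  exact ((Nat.dvd_prime (by norm_num : Nat.Prime 7)).1 h).resolve_left fun e =>
    h1 (orderOf_eq_one_iff.1 e)

theorem sylow_seven {A : Subgroup G} (hA : A ≤ D.H) (h7 : Nat.card A = 7) :
    ∃ h ∈ D.H, A.map (MulAut.conj h).toMonoidHom = D.R := by
  haveI : Fact (Nat.Prime 7) := ⟨by norm_num⟩
  have hc : ∀ B : Subgroup G, B ≤ D.H → Nat.card B = 7 →
      Nat.card (B.subgroupOf D.H) = 7 ^ (Nat.card D.H).factorization 7 := by
    intro B hB hB7
    rw [Nat.card_congr (subgroupOfEquivOfLe hB).toEquiv, hB7, D.card_H,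
      show (168 : ℕ) = 24 * 7 from rfl, Nat.factorization_mul (by norm_num) (by norm_num),
      Finsupp.add_apply, Nat.Prime.factorization_self (by norm_num),
      Nat.factorization_eq_zero_of_not_dvd (by norm_num)]
    rfl
  obtain ⟨g, hg⟩ := MulAction.exists_smul_eq D.H (Sylow.ofCard (A.subgroupOf D.H) (hc A hA h7))
    (Sylow.ofCard (D.R.subgroupOf D.H) (hc _ D.R_le D.card_R))
  refine ⟨g, g.2, eq_of_le_of_card_ge ?_ ?_⟩
  · rintro _ ⟨a, ha, rfl⟩
    have hm : g * ⟨a, hA ha⟩ * g⁻¹ ∈
        ((g • Sylow.ofCard (A.subgroupOf D.H) (hc A hA h7) : Sylow 7 D.H) : Subgroup D.H) := by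
      rw [Sylow.coe_subgroup_smul]
      exact smul_mem_pointwise_smul _ (MulAut.conj g) _ (mem_subgroupOf.2 ha)
    rw [hg] at hm
    exact mem_subgroupOf.1 hm
  · rw [card_map_of_injective (MulAut.conj (g : G)).injective, h7, D.card_R]

/-- the normalizer of `R` inside the normalizer -/
noncomputable def NR : Subgroup G := D.H ⊓ normalizer (D.R : Set G)

theorem card_sevens : Nat.card {A : Subgroup G // A ≤ D.H ∧ Nat.card A = 7} = 8 ∧ Nat.card D.NR = 21 := by
  haveI : Fact (Nat.Prime 7) := ⟨by norm_num⟩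
  let X := {A : Subgroup G // A ≤ D.H ∧ Nat.card A = 7}
  let f : D.H → X := fun h => ⟨D.R.map (MulAut.conj (h : G)).toMonoidHom, by
    rintro _ ⟨x, hx, rfl⟩
    exact mul_mem (mul_mem h.2 (D.R_le hx)) (inv_mem h.2),
    by rw [card_map_of_injective (MulAut.conj (h : G)).injective, D.card_R]⟩
  have hsurj : Function.Surjective f := by
    rintro ⟨A, hA, h7⟩
    obtain ⟨h, hh, he⟩ := D.sylow_seven hA h7
    refine ⟨⟨h⁻¹, inv_mem hh⟩, Subtype.ext ?_⟩
    show D.R.map (MulAut.conj h⁻¹).toMonoidHom = A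
    rw [← he, map_map]
    ext x
    constructor
    · rintro ⟨a, ha, rfl⟩
      show h⁻¹ * (h * a * h⁻¹) * h⁻¹⁻¹ ∈ A
      rwa [show h⁻¹ * (h * a * h⁻¹) * h⁻¹⁻¹ = a by group]
    · exact fun hx => ⟨x, hx, show h⁻¹ * (h * x * h⁻¹) * h⁻¹⁻¹ = x by group⟩
  have hcard := card_eq_mul_of_fibres D.H D.NR inf_le_left f (fun a b => by
    rw [NR, mem_inf, Subtype.ext_iff]
    simp only [mul_mem (inv_mem a.2) b.2, true_and, f]
    rw [mem_normalizer_iff_map_conj_eq]
    constructor
    · intro h
      apply map_injective (f := (MulAut.conj (a : G)).toMonoidHom) (MulAut.conj (a : G)).injective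
      refine Eq.trans ?_ h.symm
      erw [map_map]
      congr 1
      ext x
      show (a : G) * ((a : G)⁻¹ * b * x * ((a : G)⁻¹ * b)⁻¹) * (a : G)⁻¹ = b * x * (b : G)⁻¹
      group
    · intro h
      conv_lhs => rw [← h]
      erw [map_map]
      congr 1
      ext x
      show (a : G) * ((a : G)⁻¹ * b * x * ((a : G)⁻¹ * b)⁻¹) * (a : G)⁻¹ = b * x * (b : G)⁻¹
      group) hsurj
  rw [D.card_H] at hcard
  have h21 : Nat.card D.NR ∣ 168 := ⟨Nat.card X, by rw [hcard, mul_comm]⟩
  let S : Sylow 7 D.H := Sylow.ofCard (D.R.subgroupOf D.H) (by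
    rw [Nat.card_congr (subgroupOfEquivOfLe D.R_le).toEquiv, D.card_R, D.card_H,
      show (168 : ℕ) = 24 * 7 from rfl, Nat.factorization_mul (by norm_num) (by norm_num),
      Finsupp.add_apply, Nat.Prime.factorization_self (by norm_num),
      Nat.factorization_eq_zero_of_not_dvd (by norm_num)]
    rfl)
  have hNR : Nat.card D.NR = Nat.card (normalizer ((S : Subgroup D.H) : Set D.H)) := by
    rw [show (S : Subgroup D.H) = D.R.subgroupOf D.H from rfl, ← subgroupOf_normalizer_eq D.R_le]
    refine (Nat.card_congr (subgroupOfEquivOfLe (inf_le_left : D.NR ≤ D.H)).toEquiv).symm.trans ?_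
    show Nat.card ↥((D.H ⊓ normalizer (D.R : Set G)).subgroupOf D.H) = _
    rw [inf_subgroupOf_left]
  have hmod := card_sylow_modEq_one 7 D.H
  have hidx : Nat.card (Sylow 7 D.H) = (normalizer ((S : Subgroup D.H) : Set D.H)).index :=
    S.card_eq_index_normalizer
  have hmul := (normalizer ((S : Subgroup D.H) : Set D.H)).card_mul_index
  rw [← hNR, ← hidx, D.card_H] at hmul
  have hd : Nat.card (Sylow 7 D.H) ∣ 24 := by
    have h := S.card_dvd_index
    have := (S : Subgroup D.H).card_mul_index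
    rw [show Nat.card (S : Subgroup D.H) = 7 by
      rw [show (S : Subgroup D.H) = D.R.subgroupOf D.H from rfl,
        Nat.card_congr (subgroupOfEquivOfLe D.R_le).toEquiv, D.card_R], D.card_H] at this
    rwa [show (S : Subgroup D.H).index = 24 by omega] at h
  have hne : Nat.card (Sylow 7 D.H) ≠ 1 := by
    intro h1
    rw [h1, mul_one] at hmul
    have hN : D.NR = D.H := eq_of_le_of_card_ge inf_le_left (by rw [hmul, D.card_H])
    have hn : ∀ h ∈ D.H, h ∈ normalizer (D.R : Set G) := fun h hh => (hN.ge hh).2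
    -- `R` commutes with `J`
    have hx : D.r * D.J * D.r⁻¹ * D.J⁻¹ ∈ D.R ⊓ (D.P : Subgroup G) := by
      refine ⟨?_, (D.P : Subgroup G).mul_mem (D.conj_P D.r_mem D.hJP) ((D.P : Subgroup G).inv_mem D.hJP)⟩
      have h := (mem_normalizer_iff.1 (hn _ (D.P_le D.hJP)) D.r⁻¹).1 (inv_mem (mem_zpowers _))
      rw [show D.r * D.J * D.r⁻¹ * D.J⁻¹ = D.r * (D.J * D.r⁻¹ * D.J⁻¹) by group]
      exact mul_mem (mem_zpowers D.r) h
    have h1 : D.r * D.J * D.r⁻¹ * D.J⁻¹ = 1 := by
      by_contra hne
      have h7 := D.mem_R_cases hx.1 hne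
      have h8 := orderOf_dvd_natCard (⟨_, hx.2⟩ : (D.P : Subgroup G))
      rw [orderOf_mk, h7, D.card_P card_four odd_three] at h8
      norm_num at h8
    exact D.J_ne (D.eq_one_of_seven D.r_order D.sqJ (mul_inv_eq_iff_eq_mul.1 (mul_inv_eq_one.1 h1)))
  have h8 : Nat.card (Sylow 7 D.H) = 8 := by
    have hle := Nat.le_of_dvd (by norm_num) hd
    interval_cases h : Nat.card (Sylow 7 D.H) <;> first
      | omega
      | (exfalso; revert hd hmod; decide)
  rw [h8] at hmul
  have e21 : Nat.card D.NR = 21 := by omega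
  refine ⟨?_, e21⟩
  rw [e21] at hcard
  change Nat.card X = 8
  omega

theorem cent_R_eq {x : G} (hx : x ∈ D.H) (hc : x * D.r = D.r * x) : x ∈ D.R := by
  haveI : Fact (Nat.Prime 3) := ⟨Nat.prime_three⟩
  haveI : Fact (Nat.Prime 7) := ⟨by norm_num⟩
  have hxN : x ∈ D.NR := ⟨hx, centralizer_le_normalizer _ (mem_centralizer_iff.2 fun y hy => by
    obtain ⟨j, rfl⟩ := mem_zpowers_iff.1 (show y ∈ zpowers D.r from hy)
    exact ((Commute.zpow_right hc j).eq).symm)⟩
  set C := D.NR ⊓ centralizer ({D.r} : Set G)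
  have hxC : x ∈ C := ⟨hxN, mem_centralizer_singleton_iff.2 hc⟩
  by_cases h3 : 3 ∣ Nat.card C
  · exfalso
    obtain ⟨⟨c, hcC⟩, hco⟩ := exists_prime_orderOf_dvd_card' 3 h3
    rw [orderOf_mk] at hco
    have hcH : c ∈ D.H := hcC.1.1
    -- an element of order three in the centralizer of `J`
    obtain ⟨t', ht'⟩ := exists_prime_orderOf_dvd_card' (G := alternatingGroup (Fin 4)) 3
      (by rw [card_four]; norm_num)
    have htH : D.emb t' ∈ D.H := D.cent_le (D.comm _ (D.emb_mem t'))
    have hto : orderOf (D.emb t') = 3 := by rw [orderOf_injective _ D.emb_inj, ht']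
    have hfac : (Nat.card D.H).factorization 3 = 1 := by
      rw [D.card_H, show (168 : ℕ) = 56 * 3 from rfl, Nat.factorization_mul (by norm_num) (by norm_num),
        Finsupp.add_apply, Nat.Prime.factorization_self Nat.prime_three,
        Nat.factorization_eq_zero_of_not_dvd (by norm_num)]
    let A : Sylow 3 D.H := Sylow.ofCard (zpowers (⟨c, hcH⟩ : D.H)) (by
      rw [Nat.card_zpowers, orderOf_mk, hco, hfac, pow_one])
    let B : Sylow 3 D.H := Sylow.ofCard (zpowers (⟨D.emb t', htH⟩ : D.H)) (by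
      rw [Nat.card_zpowers, orderOf_mk, hto, hfac, pow_one])
    obtain ⟨g, hg⟩ := MulAction.exists_smul_eq D.H A B
    have hm : g * ⟨c, hcH⟩ * g⁻¹ ∈ ((g • A : Sylow 3 D.H) : Subgroup D.H) := by
      rw [Sylow.coe_subgroup_smul]
      exact smul_mem_pointwise_smul _ (MulAut.conj g) _ (mem_zpowers _)
    rw [hg] at hm
    obtain ⟨j, hj⟩ := mem_zpowers_iff.1 (show g * ⟨c, hcH⟩ * g⁻¹ ∈ zpowers (⟨D.emb t', htH⟩ : D.H) from hm)
    have hj : D.emb t' ^ j = (g : G) * c * (g : G)⁻¹ := by
      simpa using congrArg Subtype.val hj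
    have hJc : Commute D.J ((g : G) * c * (g : G)⁻¹) := hj ▸ Commute.zpow_right (D.comm _ (D.emb_mem t')).symm j
    set w := (g : G)⁻¹ * D.J * g with hw
    have hwc : w * c = c * w := by
      calc w * c = (g : G)⁻¹ * (D.J * ((g : G) * c * (g : G)⁻¹)) * g := by rw [hw]; group
        _ = (g : G)⁻¹ * ((g : G) * c * (g : G)⁻¹ * D.J) * g := by rw [hJc.eq]
        _ = c * w := by rw [hw]; group
    have hwP : w ∈ (D.P : Subgroup G) := by simpa [hw] using D.conj_P (inv_mem g.2) D.hJP
    have hw1 : w ≠ 1 := fun e => D.J_ne (by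
      calc D.J = (g : G) * w * (g : G)⁻¹ := by rw [hw]; group
        _ = 1 := by rw [e]; group)
    -- `J` is the only involution of `P` centralized by `t'`
    have honly : ∀ z ∈ (D.P : Subgroup G), z * D.emb t' = D.emb t' * z → z = 1 ∨ z = D.J := by
      intro z hz hzt
      have key : ∀ s ∈ D.S₀, s * D.emb t' = D.emb t' * s → s = 1 := by
        intro s hs hst
        by_contra hs1
        have h := D.cent_S₀ small_four card_four odd_three hs hs1 (D.emb_mem t') hst.symm
        have h2 := D.sq_S₀ small_four card_four odd_three h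
        have h3 : orderOf (D.emb t') ∣ 2 := orderOf_dvd_of_pow_eq_one (by rw [pow_two, h2])
        rw [hto] at h3
        norm_num at h3
      rcases D.mem_S_cases hz with h | h
      · exact Or.inl (key z h hzt)
      · refine Or.inr ?_
        have := key _ h (by rw [mul_assoc, hzt, ← mul_assoc, ← D.comm _ (D.emb_mem t'), mul_assoc])
        simpa [D.J_mul_J] using congrArg (D.J * ·) this
    -- hence `w` is fixed by `r`
    have hrw : D.r * w * D.r⁻¹ = w := by
      have hz : D.r * w * D.r⁻¹ ∈ (D.P : Subgroup G) := D.conj_P D.r_mem hwP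
      have hcr : c * D.r = D.r * c := mem_centralizer_singleton_iff.1 hcC.2
      have hzc : Commute (D.r * w * D.r⁻¹) c :=
        ((Commute.mul_left hcr.symm hwc).mul_left (Commute.inv_left hcr.symm))
      have hz2 : ((g : G) * (D.r * w * D.r⁻¹) * (g : G)⁻¹) * D.emb t' =
          D.emb t' * ((g : G) * (D.r * w * D.r⁻¹) * (g : G)⁻¹) := by
        have hgz : Commute ((g : G) * (D.r * w * D.r⁻¹) * (g : G)⁻¹) ((g : G) * c * (g : G)⁻¹) :=
          hzc.map (MulAut.conj (g : G)).toMonoidHom
        rw [← hj] at hgz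
        have hj3 : ∃ i : ℤ, D.emb t' = (D.emb t' ^ j) ^ i := by
          have hnd : ¬ (3 : ℤ) ∣ j := by
            rintro ⟨q, rfl⟩
            rw [zpow_mul, show D.emb t' ^ (3 : ℤ) = 1 from
              (zpow_ofNat _ 3).trans (by rw [← hto, pow_orderOf_eq_one]), one_zpow] at hj
            have : c = 1 := by
              calc c = (g : G)⁻¹ * ((g : G) * c * (g : G)⁻¹) * g := by group
                _ = 1 := by rw [← hj]; group
            rw [this, orderOf_one] at hco
            omega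
          refine ⟨j, ?_⟩
          rw [← zpow_mul]
          have h1 : (D.emb t' ^ (3 : ℤ)) = 1 := (zpow_ofNat _ 3).trans (by rw [← hto, pow_orderOf_eq_one])
          obtain ⟨q, hq⟩ : ∃ q, j * j = 3 * q + 1 := ⟨(j * j) / 3, by
            have := Int.mul_ediv_add_emod (j * j) 3
            have hmod : j * j % 3 = 1 := by
              rw [Int.mul_emod]
              have h0 : j % 3 = 1 ∨ j % 3 = 2 := by omega
              rcases h0 with h | h <;> rw [h] <;> rfl
            omega⟩
          rw [hq, zpow_add, zpow_mul, h1, one_zpow, one_mul, zpow_one]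
        obtain ⟨i, hi⟩ := hj3
        rw [hi]
        exact (hgz.zpow_right i).eq
      rcases honly _ (D.conj_P g.2 hz) hz2 with h | h
      · exact absurd (by
          calc w = D.r⁻¹ * ((g : G)⁻¹ * ((g : G) * (D.r * w * D.r⁻¹) * (g : G)⁻¹) * g) * D.r := by group
            _ = 1 := by rw [h]; group) hw1
      · calc D.r * w * D.r⁻¹ = (g : G)⁻¹ * ((g : G) * (D.r * w * D.r⁻¹) * (g : G)⁻¹) * g := by group
          _ = w := by rw [h]
    exact hw1 (D.eq_one_of_seven D.r_order (D.sq_P small_four card_four odd_three hwP)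
      (mul_inv_eq_iff_eq_mul.1 hrw))
  · have hle : D.R ≤ C := by
      refine zpowers_le.2 ⟨⟨D.r_mem, le_normalizer (mem_zpowers _)⟩, mem_centralizer_singleton_iff.2 rfl⟩
    have hd : Nat.card C ∣ 21 := D.card_sevens.2 ▸ card_dvd_of_le inf_le_left
    have h7 : Nat.card C = 7 := by
      have h := Nat.le_of_dvd (by norm_num) hd
      have := card_dvd_of_le hle
      rw [D.card_R] at this
      obtain ⟨c, hc⟩ := this
      rw [hc] at hd h3 h ⊢
      have : c ≤ 3 := by omega
      interval_cases c <;> omega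
    rw [eq_of_le_of_card_ge hle (by rw [h7, D.card_R])]
    exact hxC

end Ctx

end Cfsg.Agent.Lead.JankoTwoAlt
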