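import Mathlib.GroupTheory.SpecificGroups.Alternating
import Mathlib.GroupTheory.Commutator.Basic

/-!
# Facts about involutions of small and large alternating groups
-/

set_option autoImplicit false

namespace Cfsg.Agent.Lead.JankoTwoAlt

open Equiv Equiv.Perm Subgroup
open scoped commutatorElement

variable {α : Type*} [Fintype α] [DecidableEq α]

theorem pair_mem_commutator (hn : 6 ≤ Fintype.card α) {y : Perm α} (h2 : ∀ x, y (y x) = x)
    {a c : α} (ha : y a ≠ a) (hc : y c ≠ c) (hca : c ≠ a) (hcb : c ≠ y a) :
    swap a (y a) * swap c (y c) ∈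
      ⁅centralizer ({y} : Set (Perm α)) ⊓ alternatingGroup α,
        centralizer ({y} : Set (Perm α)) ⊓ alternatingGroup α⁆ := by
  have hda : y c ≠ a := fun e => hcb (by rw [← e, h2])
  have hdb : y c ≠ y a := fun e => hca (y.injective e)
  have hcomm : ∀ s t : α, y s = t ∨ (y s = s ∧ y t = t) → y * swap s t = swap s t * y := by
    intro s t h
    have e := Equiv.swap_apply_apply y s t
    have : swap (y s) (y t) = swap s t := by
      rcases h with h | ⟨h, h'⟩
      · rw [show y t = s from h ▸ h2 s, h, swap_comm]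
      · rw [h, h']
    rw [this] at e
    calc y * swap s t = y * swap s t * y⁻¹ * y := by group
      _ = swap s t * y := by rw [← e]
  obtain ⟨e, f, hef, hy, he, hf⟩ : ∃ e f : α, e ≠ f ∧ (y e = f ∨ (y e = e ∧ y f = f)) ∧
      (∀ z ∈ ({a, y a, c, y c} : Finset α), e ≠ z) ∧ (∀ z ∈ ({a, y a, c, y c} : Finset α), f ≠ z) := by
    set F : Finset α := {a, y a, c, y c}
    have hclosed : ∀ z ∈ F, y z ∈ F := by
      intro z hz
      simp only [F, Finset.mem_insert, Finset.mem_singleton] at hz ⊢
      rcases hz with rfl | rfl | rfl | rfl <;> simp [h2]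
    by_cases hex : ∃ e, e ∉ F ∧ y e ≠ e
    · obtain ⟨e, he, hye⟩ := hex
      exact ⟨e, y e, hye.symm, Or.inl rfl, fun z hz h => he (h ▸ hz),
        fun z hz h => he (by simpa [h2, ← h] using hclosed z hz)⟩
    · simp only [not_exists, not_and, not_not] at hex
      have hF : F.card ≤ 4 := Finset.card_le_four
      obtain ⟨e, he, f, hf, hef⟩ := Finset.one_lt_card.1 (show 1 < Fᶜ.card by
        rw [Finset.card_compl]; omega)
      rw [Finset.mem_compl] at he hf
      exact ⟨e, f, hef, Or.inr ⟨hex e he, hex f hf⟩, fun z hz h => he (h ▸ hz), fun z hz h => hf (h ▸ hz)⟩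
  simp only [Finset.mem_insert, Finset.mem_singleton, forall_eq_or_imp, forall_eq] at he hf
  set p := swap a c * swap (y a) (y c)
  set q := swap a (y a) * swap e f
  have hp : p ∈ centralizer ({y} : Set (Perm α)) ⊓ alternatingGroup α := by
    refine ⟨mem_centralizer_singleton_iff.2 ?_, mem_alternatingGroup.2 ?_⟩
    · have e1 := Equiv.swap_apply_apply y a c
      have e2 := Equiv.swap_apply_apply y (y a) (y c)
      rw [h2, h2] at e2
      have hc' : Commute (swap a c) (swap (y a) (y c)) := by
        refine (Disjoint.commute fun z => ?_)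
        by_cases hz : z = a ∨ z = c
        · refine Or.inr (swap_apply_of_ne_of_ne ?_ ?_)
          · rcases hz with rfl | rfl
            · exact ha.symm
            · exact hcb
          · rcases hz with rfl | rfl
            · exact hda.symm
            · exact hc.symm
        · exact Or.inl (swap_apply_of_ne_of_ne (fun h => hz (Or.inl h)) fun h => hz (Or.inr h))
      calc p * y = swap (y a) (y c) * swap a c * y := by rw [show p = _ from hc'.eq]
        _ = y * swap a c * y⁻¹ * (y * swap (y a) (y c) * y⁻¹) * y := by rw [← e1, ← e2]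
        _ = y * p := by simp [p, mul_assoc]
    · rw [map_mul, sign_swap hca.symm, sign_swap hdb.symm]
      rfl
  have hq : q ∈ centralizer ({y} : Set (Perm α)) ⊓ alternatingGroup α := by
    refine ⟨mem_centralizer_singleton_iff.2 ?_, mem_alternatingGroup.2 ?_⟩
    · show swap a (y a) * swap e f * y = y * (swap a (y a) * swap e f)
      rw [mul_assoc, ← hcomm e f hy, ← mul_assoc, ← hcomm a (y a) (Or.inl rfl), mul_assoc]
    · rw [map_mul, sign_swap ha.symm, sign_swap hef]
      rfl
  have hpe : ∀ z, z ≠ a → z ≠ c → z ≠ y a → z ≠ y c → p z = z := fun z h1 h2' h3 h4 => by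
    simp [p, swap_apply_of_ne_of_ne h1 h2', swap_apply_of_ne_of_ne h3 h4]
  have hpa : p a = c := by
    simp [p, swap_apply_of_ne_of_ne ha.symm hda.symm]
  have hpb : p (y a) = y c := by
    simp [p, swap_apply_of_ne_of_ne hda hc]
  have key : p * q * p⁻¹ = swap c (y c) * swap e f := by
    have e1 := Equiv.swap_apply_apply p a (y a)
    have e2 := Equiv.swap_apply_apply p e f
    rw [hpa, hpb] at e1
    rw [hpe e he.1 he.2.2.1 he.2.1 he.2.2.2, hpe f hf.1 hf.2.2.1 hf.2.1 hf.2.2.2] at e2
    calc p * q * p⁻¹ = (p * swap a (y a) * p⁻¹) * (p * swap e f * p⁻¹) := by simp [q, mul_assoc]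
      _ = _ := by rw [← e1, ← e2]
  have : ⁅q, p⁆ = swap a (y a) * swap c (y c) := by
    rw [commutatorElement_def]
    have hqi : q⁻¹ = swap e f * swap a (y a) := by simp [q, mul_inv_rev]
    calc q * p * q⁻¹ * p⁻¹ = q * (p * q * p⁻¹)⁻¹ := by simp [mul_assoc]
      _ = swap a (y a) * (swap e f * swap e f) * swap c (y c) := by
          rw [key]; simp [q, mul_inv_rev, mul_assoc]
      _ = _ := by rw [swap_mul_self, mul_one]
  rw [← this]
  exact commutator_mem_commutator hq hp

theorem mem_commutator_of_restriction (hn : 6 ≤ Fintype.card α) {y : Perm α} (h2 : ∀ x, y (y x) = x)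
    (k : ℕ) : ∀ w : Perm α, w.support.card ≤ k → (∀ x, w x ≠ x → w x = y x) → sign w = 1 →
      w ∈ ⁅centralizer ({y} : Set (Perm α)) ⊓ alternatingGroup α,
        centralizer ({y} : Set (Perm α)) ⊓ alternatingGroup α⁆ := by
  induction k using Nat.strong_induction_on with
  | _ k ih =>
  intro w hk hr hs
  by_cases hw : w = 1
  · rw [hw]; exact one_mem _
  obtain ⟨a, ha⟩ : ∃ a, w a ≠ a := by
    by_contra h
    simp only [not_exists, not_not] at h
    exact hw (Equiv.ext h)
  have hwa : w a = y a := hr a ha
  have hwya : w (y a) = a := by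
    rw [hr (y a) (fun e => ha ?_), h2]
    exact w.injective (hwa.symm ▸ e)
  obtain ⟨c, hc, hca, hcb⟩ : ∃ c, w c ≠ c ∧ c ≠ a ∧ c ≠ y a := by
    by_contra h
    simp only [not_exists, not_and, not_not] at h
    have : w = swap a (y a) := Equiv.ext fun z => by
      by_cases h1 : z = a
      · rw [h1, hwa, swap_apply_left]
      by_cases h3 : z = y a
      · rw [h3, hwya, swap_apply_right]
      rw [swap_apply_of_ne_of_ne h1 h3]
      by_contra hz
      exact h3 (h z hz h1)
    rw [this, sign_swap (fun e => ha (hwa.trans e.symm))] at hs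
    exact absurd hs (by decide)
  have hwc : w c = y c := hr c hc
  have hwyc : w (y c) = c := by
    rw [hr (y c) (fun e => hc ?_), h2]
    exact w.injective (hwc.symm ▸ e)
  have hya : y a ≠ a := hwa ▸ ha
  have hyc : y c ≠ c := hwc ▸ hc
  have hda : y c ≠ a := fun e => hcb (by rw [← e, h2])
  have hdb : y c ≠ y a := fun e => hca (y.injective e)
  set z := swap a (y a) * swap c (y c)
  have hz := pair_mem_commutator hn h2 hya hyc hca hcb
  have hfix : ∀ x ∈ ({a, y a, c, y c} : Finset α), (z * w) x = x := by
    intro x hx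
    simp only [Finset.mem_insert, Finset.mem_singleton] at hx
    rcases hx with rfl | rfl | rfl | rfl
    · simp [z, hwa, swap_apply_of_ne_of_ne hcb.symm hdb.symm]
    · simp [z, hwya, swap_apply_of_ne_of_ne hca.symm hda.symm]
    · simp [z, hwc, swap_apply_of_ne_of_ne hca hcb]
    · simp [z, hwyc, swap_apply_of_ne_of_ne hda hdb]
  have hsame : ∀ x, x ∉ ({a, y a, c, y c} : Finset α) → (z * w) x = w x := by
    intro x hx
    have hwx : w x ∉ ({a, y a, c, y c} : Finset α) := by
      intro h
      simp only [Finset.mem_insert, Finset.mem_singleton] at h hx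
      rcases h with h | h | h | h
      · exact hx (Or.inr (Or.inl (w.injective (h.trans hwya.symm))))
      · exact hx (Or.inl (w.injective (h.trans hwa.symm)))
      · exact hx (Or.inr (Or.inr (Or.inr (w.injective (h.trans hwyc.symm)))))
      · exact hx (Or.inr (Or.inr (Or.inl (w.injective (h.trans hwc.symm)))))
    simp only [Finset.mem_insert, Finset.mem_singleton, not_or] at hwx
    simp [z, swap_apply_of_ne_of_ne hwx.2.2.1 hwx.2.2.2, swap_apply_of_ne_of_ne hwx.1 hwx.2.1]
  have hlt : (z * w).support.card < k := by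
    refine lt_of_lt_of_le (Finset.card_lt_card ⟨fun x hx => ?_, fun h => ?_⟩) hk
    · rw [mem_support] at hx ⊢
      have : x ∉ ({a, y a, c, y c} : Finset α) := fun h => hx (hfix x h)
      rwa [hsame x this] at hx
    · exact mem_support.1 (h (mem_support.2 ha)) (hfix a (by simp))
  have hmem := ih _ hlt (z * w) le_rfl (fun x hx => by
      have hn' : x ∉ ({a, y a, c, y c} : Finset α) := fun h => hx (hfix x h)
      rw [hsame x hn'] at hx ⊢
      exact hr x hx)
    (by rw [map_mul, hs, map_mul, sign_swap hya.symm, sign_swap hyc.symm]; rfl)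
  rw [show w = z⁻¹ * (z * w) by group]
  exact mul_mem (inv_mem hz) hmem

/-- In a large alternating group an involution is a product of commutators of its centralizer. -/
theorem involution_mem_commutator (hn : 6 ≤ Fintype.card α) (a : alternatingGroup α) (ha : a * a = 1) :
    a ∈ ⁅centralizer ({a} : Set (alternatingGroup α)), centralizer ({a} : Set (alternatingGroup α))⁆ := by
  have h2 : ∀ x, (a : Perm α) ((a : Perm α) x) = x := fun x =>
    Equiv.ext_iff.1 (congrArg Subtype.val ha) x
  have h := mem_commutator_of_restriction hn h2 _ (a : Perm α) le_rfl (fun _ _ => rfl)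
    (mem_alternatingGroup.1 a.2)
  have hmap : (centralizer ({a} : Set (alternatingGroup α))).map (alternatingGroup α).subtype =
      centralizer ({(a : Perm α)} : Set (Perm α)) ⊓ alternatingGroup α := by
    ext x
    constructor
    · rintro ⟨y, hy, rfl⟩
      exact ⟨mem_centralizer_singleton_iff.2
        (congrArg Subtype.val (mem_centralizer_singleton_iff.1 hy)), y.2⟩
    · rintro ⟨hx, hxA⟩
      exact ⟨⟨x, hxA⟩, mem_centralizer_singleton_iff.2
        (Subtype.ext (mem_centralizer_singleton_iff.1 hx)), rfl⟩
  rw [← hmap, ← map_commutator] at h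
  obtain ⟨b, hb, hba⟩ := h
  exact (Subtype.ext hba : b = a) ▸ hb

/-- The facts needed about the alternating groups of degree four and five. -/
structure Small (A : Type*) [Group A] : Prop where
  sq : ∀ a : A, a * a * (a * a) = 1 → a * a = 1
  cent : ∀ a : A, a ≠ 1 → a * a = 1 → Nat.card {x : A // x * a = a * x} = 4
  rot : ∀ a b : A, a ≠ 1 → b ≠ 1 → a ≠ b → a * a = 1 → b * b = 1 → a * b = b * a →
    ∃ t : A, t * a * t⁻¹ = b ∧ t * b * t⁻¹ = a * b
  odd : ∀ a : A, a ≠ 1 → a * a ≠ 1 →
    ∃ t : A, (a * a * (t * a * t⁻¹)) * (a * a * (t * a * t⁻¹)) = 1 ∧ a * a * (t * a * t⁻¹) ≠ 1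

set_option maxRecDepth 100000
set_option synthInstance.maxSize 4000
set_option synthInstance.maxHeartbeats 400000

theorem four_commute : ∀ a b : alternatingGroup (Fin 4), a * a = 1 → b * b = 1 → a * b = b * a := by
  decide +kernel

theorem five_gen : ∀ x : alternatingGroup (Fin 5), ∃ a, a * a = 1 ∧ (a * x) * (a * x) = 1 := by
  decide +kernel

theorem small_four : Small (alternatingGroup (Fin 4)) where
  sq := by decide +kernel
  cent := by
    simp only [Nat.card_eq_fintype_card]
    decide +kernel
  rot := by decide +kernel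
  odd := by decide +kernel

theorem small_five : Small (alternatingGroup (Fin 5)) where
  sq := by decide +kernel
  cent := by
    simp only [Nat.card_eq_fintype_card]
    decide +kernel
  rot := by decide +kernel
  odd := by decide +kernel

end Cfsg.Agent.Lead.JankoTwoAlt
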