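import Cfsg.Agent.S0111
import Cfsg.Agent.Lib.Fusion.BurnsideFusion
import Cfsg.Agent.Lib.Lead.JankoTwoAlt.Alt
import Cfsg.Prelude.Def_SporadicB
import Mathlib.GroupTheory.GroupAction.Quotient

/-!
# An involution whose centralizer is the product with an alternating group
-/

set_option autoImplicit false

namespace Cfsg.Agent.Lead.JankoTwoAlt

open Subgroup
open scoped commutatorElement

universe u

variable {G : Type u} [Group G] [Finite G]

/-- A two-central involution `J` with centralizer `⟨J⟩ × T`, `T` alternating, in a group with no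
normal subgroup of index two. -/
structure Ctx (G : Type u) [Group G] (m : ℕ) where
  J : G
  T : Subgroup G
  e : T ≃* alternatingGroup (Fin m)
  hJ : orderOf J = 2
  P : Sylow 2 G
  hJP : J ∈ P
  hcen : ∀ x ∈ P, x * J = J * x
  comm : ∀ t ∈ T, t * J = J * t
  hJT : J ∉ T
  split : ∀ x : G, x * J = J * x → x ∈ T ∨ J * x ∈ T
  noTwo : ∀ N : Subgroup G, N.Normal → N.index ≠ 2

namespace Ctx

variable {m : ℕ} (D : Ctx G m)

omit [Finite G] in
theorem sqJ : D.J * D.J = 1 := by
  have := pow_orderOf_eq_one D.J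
  rwa [D.hJ, pow_two] at this

omit [Finite G] in
theorem J_ne : D.J ≠ 1 := fun e => by have := D.hJ; rw [e, orderOf_one] at this; omega

/-- the part of the Sylow subgroup in `T` -/
def S₀ : Subgroup G := (D.P : Subgroup G) ⊓ D.T

omit [Finite G] in
theorem J_mul_J (x : G) : D.J * (D.J * x) = x := by rw [← mul_assoc, D.sqJ, one_mul]

omit [Finite G] in
theorem mem_S_cases {x : G} (hx : x ∈ (D.P : Subgroup G)) : x ∈ D.S₀ ∨ D.J * x ∈ D.S₀ :=
  (D.split x (D.hcen x hx)).imp (fun h => ⟨hx, h⟩) fun h => ⟨mul_mem D.hJP hx, h⟩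

omit [Finite G] in
theorem relIndex_S₀ : D.S₀.relIndex (D.P : Subgroup G) = 2 := by
  rw [relIndex, index_eq_two_iff]
  refine ⟨⟨D.J, D.hJP⟩, fun ⟨b, hb⟩ => ?_⟩
  simp only [mem_subgroupOf]
  rcases D.mem_S_cases hb with h | h
  · exact Or.inr ⟨h, fun h' => D.hJT ((D.T.mul_mem_cancel_left h.2).1 h'.2)⟩
  · refine Or.inl ⟨?_, fun h' => D.hJT ?_⟩
    · show b * D.J ∈ D.S₀
      rwa [D.hcen b hb]
    · exact (D.T.mul_mem_cancel_right h'.2).1 h.2

theorem exists_conj : ∃ g : G, g * D.J * g⁻¹ ∈ D.S₀ := by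
  rcases S0111.result D.P D.S₀ inf_le_left D.relIndex_S₀ D.J D.hJ D.hJP (fun h => D.hJT h.2) with
    ⟨M, hM, hMi, -⟩ | h
  · exact absurd hMi (D.noTwo M hM)
  · exact h

/-- `T` as an embedded alternating group -/
def emb : alternatingGroup (Fin m) →* G := D.T.subtype.comp D.e.symm.toMonoidHom

omit [Finite G] in
theorem emb_mem (a : alternatingGroup (Fin m)) : D.emb a ∈ D.T := (D.e.symm a).2

omit [Finite G] in
theorem emb_inj : Function.Injective D.emb := fun _ _ h => D.e.symm.injective (Subtype.ext h)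

omit [Finite G] in
theorem exists_emb {x : G} (hx : x ∈ D.T) : ∃ a, D.emb a = x :=
  ⟨D.e ⟨x, hx⟩, by simp [emb]⟩

omit [Finite G] in
theorem commutator_mem {x y : G} (hx : x * D.J = D.J * x) (hy : y * D.J = D.J * y) : ⁅x, y⁆ ∈ D.T := by
  have key : ∀ x : G, x * D.J = D.J * x → ∃ z i, z ∈ D.T ∧ x = i * z ∧ (i = 1 ∨ i = D.J) := fun x hx =>
    (D.split x hx).elim (fun h => ⟨x, 1, h, (one_mul x).symm, Or.inl rfl⟩)
      fun h => ⟨_, D.J, h, (D.J_mul_J x).symm, Or.inr rfl⟩
  obtain ⟨s, i, hs, rfl, hi⟩ := key x hx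
  obtain ⟨t, j, ht, rfl, hj⟩ := key y hy
  have hi' : ∀ z ∈ D.T, z * i = i * z := fun z hz => by
    rcases hi with rfl | rfl
    · simp
    · exact D.comm z hz
  have hj' : ∀ z ∈ D.T, z * j = j * z := fun z hz => by
    rcases hj with rfl | rfl
    · simp
    · exact D.comm z hz
  have hij : i * j = j * i := by rcases hi with rfl | rfl <;> rcases hj with rfl | rfl <;> simp
  have : ⁅i * s, j * t⁆ = ⁅s, t⁆ := by
    have e1 : i * s * (j * t) = i * j * (s * t) := by
      rw [mul_assoc i s, ← mul_assoc s j, hj' s hs]; group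
    have e2 : j * t * (i * s) = i * j * (t * s) := by
      rw [mul_assoc j t, ← mul_assoc t i, hi' t ht, hij]; group
    calc ⁅i * s, j * t⁆ = (i * s * (j * t)) * (j * t * (i * s))⁻¹ := by group
      _ = i * j * ⁅s, t⁆ * (i * j)⁻¹ := by rw [e1, e2]; group
      _ = ⁅s, t⁆ := by
        have hmem : ⁅s, t⁆ ∈ D.T := by
          rw [commutatorElement_def]; exact mul_mem (mul_mem (mul_mem hs ht) (inv_mem hs)) (inv_mem ht)
        rw [mul_inv_eq_iff_eq_mul, ← mul_assoc, hi' _ hmem, mul_assoc i ⁅s, t⁆, hj' _ hmem, mul_assoc]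
  rw [this, commutatorElement_def]
  exact mul_mem (mul_mem (mul_mem hs ht) (inv_mem hs)) (inv_mem ht)

include D in
theorem m_le_five : m ≤ 5 := by
  by_contra hm
  obtain ⟨g, hg⟩ := D.exists_conj
  obtain ⟨a, ha⟩ := D.exists_emb hg.2
  have ha2 : a * a = 1 := D.emb_inj (by
    rw [map_mul, map_one, ha]
    calc g * D.J * g⁻¹ * (g * D.J * g⁻¹) = g * (D.J * D.J) * g⁻¹ := by group
      _ = 1 := by rw [D.sqJ]; group)
  have h := mem_map_of_mem D.emb
    (involution_mem_commutator (by rw [Fintype.card_fin]; omega) a ha2)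
  rw [map_commutator, ha] at h
  have hle : ⁅(centralizer ({a} : Set (alternatingGroup (Fin m)))).map D.emb,
      (centralizer ({a} : Set (alternatingGroup (Fin m)))).map D.emb⁆ ≤ D.T.map (MulAut.conj g).toMonoidHom := by
    have key : ∀ x ∈ (centralizer ({a} : Set (alternatingGroup (Fin m)))).map D.emb,
        (g⁻¹ * x * g) * D.J = D.J * (g⁻¹ * x * g) := by
      rintro x ⟨b, hb, rfl⟩
      have e := congrArg D.emb (mem_centralizer_singleton_iff.1 hb)
      rw [map_mul, map_mul, ha] at e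
      calc g⁻¹ * D.emb b * g * D.J = g⁻¹ * (D.emb b * (g * D.J * g⁻¹)) * g := by group
        _ = g⁻¹ * ((g * D.J * g⁻¹) * D.emb b) * g := by rw [e]
        _ = D.J * (g⁻¹ * D.emb b * g) := by group
    rw [commutator_le]
    intro x hx y hy
    refine ⟨_, D.commutator_mem (key x hx) (key y hy), ?_⟩
    rw [commutatorElement_def, commutatorElement_def]
    show g * _ * g⁻¹ = _
    group
  obtain ⟨t, ht, he⟩ := hle h
  have he : g * t * g⁻¹ = g * D.J * g⁻¹ := he
  exact D.hJT (mul_left_cancel (mul_right_cancel he) ▸ ht)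

include D in
theorem two_dvd : 2 ∣ Nat.card (alternatingGroup (Fin m)) := by
  obtain ⟨g, hg⟩ := D.exists_conj
  rw [← Nat.card_congr D.e.toEquiv]
  have := orderOf_dvd_natCard (⟨_, hg.2⟩ : D.T)
  rwa [orderOf_mk, show g * D.J * g⁻¹ = MulAut.conj g D.J from rfl,
    (MulAut.conj g).orderOf_eq, D.hJ] at this

include D in
theorem m_cases : m = 4 ∨ m = 5 := by
  have h5 := D.m_le_five
  have h2 := D.two_dvd
  by_contra h
  have : m ≤ 3 := by omega
  rw [Nat.card_eq_fintype_card] at h2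
  interval_cases m <;> exact absurd h2 (by decide)

theorem card_cent : Nat.card (centralizer ({D.J} : Set G)) = 2 * Nat.card (alternatingGroup (Fin m)) := by
  have hr : D.T.relIndex (centralizer ({D.J} : Set G)) = 2 := by
    rw [relIndex, index_eq_two_iff]
    refine ⟨⟨D.J, mem_centralizer_singleton_iff.2 rfl⟩, fun ⟨b, hb⟩ => ?_⟩
    have hb := mem_centralizer_singleton_iff.1 hb
    simp only [mem_subgroupOf]
    rcases D.split b hb with h | h
    · exact Or.inr ⟨h, fun h' => D.hJT ((D.T.mul_mem_cancel_left h).1 h')⟩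
    · refine Or.inl ⟨(show b * D.J ∈ D.T by rwa [hb]), fun h' => D.hJT ?_⟩
      simpa using mul_mem h (inv_mem h')
  rw [← Nat.card_congr D.e.toEquiv]
  have h := relIndex_mul_relIndex ⊥ D.T (centralizer ({D.J} : Set G)) bot_le
    (fun t ht => mem_centralizer_singleton_iff.2 (D.comm t ht))
  rw [relIndex_bot_left, relIndex_bot_left, hr] at h
  omega

end Ctx

end Cfsg.Agent.Lead.JankoTwoAlt
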