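import Cfsg.Agent.Lib.Lead.JankoTwoAlt.Four

/-!
# Degree four: the index of the strongly embedded normalizer is nine
-/

set_option autoImplicit false
set_option linter.style.haveILetI false

namespace Cfsg.Agent.Lead.JankoTwoAlt

open Subgroup Cfsg
open Cfsg.Agent.Fusion

universe u

variable {G : Type u} [Group G] [Finite G]

namespace Ctx

variable (D : Ctx G 4)

/-- the other points fixed by `R` -/
def Fix : Type u := {p : G ⧸ D.H // p ≠ D.base ∧ ∀ a ∈ D.R, a • p = p}

noncomputable instance : Finite D.Fix := Subtype.finite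

variable (hns : ¬ Group.IsSolvable G)
include hns

theorem card_others : Nat.card {p : G ⧸ D.H // p ≠ D.base} = 8 * Nat.card D.Fix := by
  classical
  rw [← D.card_sevens.1, ← Nat.card_prod]
  let X := {A : Subgroup G // A ≤ D.H ∧ Nat.card A = 7}
  let hc : X → G := fun A => (D.sylow_seven A.2.1 A.2.2).choose
  have hcH : ∀ A, hc A ∈ D.H := fun A => (D.sylow_seven A.2.1 A.2.2).choose_spec.1
  have hcR : ∀ A : X, A.1.map (MulAut.conj (hc A)).toMonoidHom = D.R :=
    fun A => (D.sylow_seven A.2.1 A.2.2).choose_spec.2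
  let f : X × D.Fix → {p : G ⧸ D.H // p ≠ D.base} := fun z => ⟨(hc z.1)⁻¹ • z.2.1, fun e =>
    z.2.2.1 (by rw [← smul_inv_smul (hc z.1) z.2.1, e, D.smul_base.2 (hcH z.1)])⟩
  have hfix : ∀ (A : X) (q : G ⧸ D.H), (∀ a ∈ D.R, a • q = q) →
      ∀ a ∈ A.1, a • D.base = D.base ∧ a • (hc A)⁻¹ • q = (hc A)⁻¹ • q := by
    intro A q hq a ha
    refine ⟨D.smul_base.2 (A.2.1 ha), ?_⟩
    have hm : hc A * a * (hc A)⁻¹ ∈ D.R := hcR A ▸ mem_map_of_mem (MulAut.conj (hc A)).toMonoidHom ha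
    calc a • (hc A)⁻¹ • q = (hc A)⁻¹ • ((hc A * a * (hc A)⁻¹) • q) := by
          rw [smul_smul, smul_smul]; group
      _ = (hc A)⁻¹ • q := by rw [hq _ hm]
  refine (Nat.card_eq_of_bijective f ⟨?_, ?_⟩).symm
  · rintro ⟨A, q⟩ ⟨B, r⟩ h
    have h : (hc A)⁻¹ • q.1 = (hc B)⁻¹ • r.1 := congrArg Subtype.val h
    obtain ⟨C, -, -, hC⟩ := D.pair_data hns (f (A, q)).2
    have e1 := hC A.1 A.2.2 (hfix A q.1 q.2.2)
    have e2 := hC B.1 B.2.2 (fun a ha => by
      obtain ⟨h1, h2⟩ := hfix B r.1 r.2.2 a ha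
      exact ⟨h1, show a • (hc A)⁻¹ • q.1 = (hc A)⁻¹ • q.1 by rwa [h]⟩)
    have hAB : A = B := Subtype.ext (e1.trans e2.symm)
    subst hAB
    exact Prod.ext rfl (Subtype.ext (smul_left_cancel _ h))
  · rintro ⟨p, hp⟩
    obtain ⟨C, hC7, hCfix, -⟩ := D.pair_data hns hp
    let A : X := ⟨C, fun c hc' => D.smul_base.1 (hCfix c hc').1, hC7⟩
    refine ⟨(A, ⟨hc A • p, fun e => hp ?_, fun a ha => ?_⟩), Subtype.ext (inv_smul_smul (hc A) p)⟩
    · rw [← inv_smul_smul (hc A) p, e, D.smul_base.2 (inv_mem (hcH A))]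
    · rw [← hcR A] at ha
      obtain ⟨c, hcC, rfl⟩ := ha
      show (hc A * c * (hc A)⁻¹) • hc A • p = hc A • p
      rw [smul_smul, inv_mul_cancel_right, mul_smul, (hCfix c hcC).2]

theorem card_points : D.H.index = 1 + 8 * Nat.card D.Fix := by
  classical
  haveI := Fintype.ofFinite (G ⧸ D.H)
  rw [← D.card_others hns, index_eq_card, Nat.card_eq_fintype_card, Nat.card_eq_fintype_card,
    Fintype.card_subtype_compl, Fintype.card_subtype_eq]
  have : 0 < Fintype.card (G ⧸ D.H) := Fintype.card_pos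
  omega

theorem card_G : Nat.card G = 168 * (1 + 8 * Nat.card D.Fix) := by
  rw [← D.card_points hns, ← D.card_H, D.H.card_mul_index]

theorem fix_nonempty : Nonempty D.Fix := by
  by_contra h
  rw [not_nonempty_iff] at h
  have := D.card_points hns
  rw [Nat.card_of_isEmpty, mul_zero] at this
  exact D.H_ne_top hns (index_eq_one.1 this)

theorem swapper (p : D.Fix) : ∃ x : G, orderOf x = 2 ∧ x • D.base = p.1 ∧ x • p.1 = D.base ∧
    x * D.r * x⁻¹ = D.r⁻¹ := by
  have hse := D.stronglyEmbedded hns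
  obtain ⟨x, hx2, hxp⟩ : ∃ x : G, orderOf x = 2 ∧ x • D.base = p.1 := by
    haveI : Nonempty {t : G // orderOf t = 2 ∧ t • D.base = D.base} :=
      ⟨⟨D.J, D.hJ, D.smul_base.2 (D.P_le D.hJP)⟩⟩
    have h := SEPairs.card_swappers hse p.2.1.symm
    have hpos : 0 < Nat.card {i : G // orderOf i = 2 ∧ i • D.base = p.1} := h ▸ Nat.card_pos
    obtain ⟨⟨x, hx⟩⟩ := (Nat.card_pos_iff.1 hpos).1
    exact ⟨x, hx⟩
  have hxx : x * x = 1 := SEPairs.sq_one hx2
  have hpx : x • p.1 = D.base := by rw [← hxp, smul_smul, hxx, one_smul]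
  refine ⟨x, hx2, hxp, hpx, ?_⟩
  obtain ⟨C, -, -, hC⟩ := D.pair_data hns p.2.1
  have e1 := hC D.R D.card_R (fun a ha => ⟨D.smul_base.2 (D.R_le ha), p.2.2 a ha⟩)
  have e2 := hC (D.R.map (MulAut.conj x).toMonoidHom)
    (by rw [card_map_of_injective (MulAut.conj x).injective, D.card_R]) (by
      rintro _ ⟨a, ha, rfl⟩
      have hinv : x⁻¹ = x := SEPairs.inv_self hx2
      show (x * a * x⁻¹) • D.base = D.base ∧ (x * a * x⁻¹) • p.1 = p.1
      rw [hinv, mul_smul, mul_smul, mul_smul, mul_smul, hxp, hpx, p.2.2 a ha,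
        D.smul_base.2 (D.R_le ha)]
      exact ⟨hpx, hxp⟩)
  have hm : x * D.r * x⁻¹ ∈ D.R := (e2.trans e1.symm).le (mem_map_of_mem _ (mem_zpowers D.r))
  have hcomm : x * D.r * x⁻¹ * D.r = D.r * (x * D.r * x⁻¹) := by
    obtain ⟨j, hj⟩ := mem_zpowers_iff.1 hm
    rw [← hj]
    exact (Commute.zpow_self D.r j).eq
  by_contra hne
  have hs1 : x * D.r * x⁻¹ * D.r ≠ 1 := fun e => hne (eq_inv_of_mul_eq_one_left e)
  have hxs : x * D.r * x⁻¹ * D.r * x = x * (x * D.r * x⁻¹ * D.r) := by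
    calc x * D.r * x⁻¹ * D.r * x = D.r * (x * D.r * x⁻¹) * x := by rw [hcomm]
      _ = D.r * x * D.r := by group
      _ = x * (x * D.r * x⁻¹ * D.r) * 1 := by
        rw [show x * (x * D.r * x⁻¹ * D.r) = x * x * (D.r * x⁻¹ * D.r) by group, hxx, one_mul,
          SEPairs.inv_self hx2, mul_one]
      _ = x * (x * D.r * x⁻¹ * D.r) := mul_one _
  have h7 := D.mem_R_cases (x := x * D.r * x⁻¹ * D.r) (mul_mem hm (mem_zpowers _)) hs1
  have := D.eq_one_of_seven h7 hxx hxs
  rw [this, orderOf_one] at hx2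
  omega

omit hns in
theorem commute_R_of_comm {x : G} (hx : x * D.r = D.r * x) {a : G} (ha : a ∈ D.R) : x * a = a * x := by
  obtain ⟨j, rfl⟩ := mem_zpowers_iff.1 ha
  exact (Commute.zpow_right hx j).eq

theorem centR_card : ∃ f : ℕ, Odd f ∧ Nat.card (centralizer ({D.r} : Set G)) = f ∧
    Nat.card (normalizer (D.R : Set G)) = 6 * f ∧ 6 * f = 21 * (Nat.card D.Fix + 1) := by
  haveI : Fact (Nat.Prime 2) := ⟨Nat.prime_two⟩
  haveI : Fact (Nat.Prime 3) := ⟨Nat.prime_three⟩
  haveI : Fact (Nat.Prime 7) := ⟨by norm_num⟩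
  set N := normalizer (D.R : Set G)
  set C := centralizer ({D.r} : Set G)
  have hCN : C ≤ N := fun x hx => centralizer_le_normalizer _ (mem_centralizer_iff.2 fun a ha =>
    (D.commute_R_of_comm (mem_centralizer_singleton_iff.1 hx) ha).symm)
  -- transitivity on the fixed points
  let F := {p : G ⧸ D.H // ∀ a ∈ D.R, a • p = p}
  have hF : Nat.card F = Nat.card D.Fix + 1 := by
    classical
    let e : Option D.Fix → F := fun o => o.elim ⟨D.base, fun a ha => D.smul_base.2 (D.R_le ha)⟩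
      fun p => ⟨p.1, p.2.2⟩
    have he : Function.Bijective e := by
      refine ⟨?_, ?_⟩
      · rintro (_ | p) (_ | q) h <;> have h := congrArg Subtype.val h
        · rfl
        · exact absurd h.symm q.2.1
        · exact absurd h p.2.1
        · exact congrArg some (Subtype.ext h)
      · rintro ⟨p, hp⟩
        by_cases h : p = D.base
        · exact ⟨none, Subtype.ext h.symm⟩
        · exact ⟨some ⟨p, h, hp⟩, rfl⟩
    rw [← Nat.card_eq_of_bijective e he, Finite.card_option]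
  let f : N → F := fun n => ⟨(n : G) • D.base, fun a ha => by
    have hm : (n : G)⁻¹ * a * n ∈ D.R := by simpa using (mem_normalizer_iff.1 (inv_mem n.2) a).1 ha
    calc a • (n : G) • D.base = (n : G) • ((n : G)⁻¹ * a * n) • D.base := by
          rw [smul_smul, smul_smul]; group
      _ = (n : G) • D.base := by rw [D.smul_base.2 (D.R_le hm)]⟩
  have hNeq := card_eq_mul_of_fibres N D.NR inf_le_right f (fun a b => by
    rw [NR, mem_inf, Subtype.ext_iff]
    simp only [f, ← D.smul_base, mul_smul, inv_smul_eq_iff]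
    exact ⟨fun h => ⟨h.symm, mul_mem (inv_mem a.2) b.2⟩, fun h => h.1.symm⟩) (by
    rintro ⟨p, hp⟩
    obtain ⟨g, rfl⟩ : ∃ g : G, g • D.base = p := MulAction.exists_smul_eq G D.base p
    obtain ⟨h, hh, he⟩ := D.sylow_seven (A := D.R.map (MulAut.conj g⁻¹).toMonoidHom) (by
      rintro _ ⟨a, ha, rfl⟩
      refine D.smul_base.1 ?_
      show (g⁻¹ * a * g⁻¹⁻¹) • D.base = D.base
      rw [inv_inv, mul_smul, mul_smul, hp a ha, inv_smul_smul])
      (by rw [card_map_of_injective (MulAut.conj g⁻¹).injective, D.card_R])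
    have hn : g * h⁻¹ ∈ N := by
      have hi : (h * g⁻¹) ∈ N := by
        refine mem_normalizer_iff_map_conj_eq.2 ?_
        refine Eq.trans ?_ he
        erw [map_map]
        congr 1
        ext a
        show h * g⁻¹ * a * (h * g⁻¹)⁻¹ = h * (g⁻¹ * a * g⁻¹⁻¹) * h⁻¹
        group
      simpa using inv_mem hi
    exact ⟨⟨_, hn⟩, Subtype.ext (show (g * h⁻¹) • D.base = g • D.base by
      rw [mul_smul, D.smul_base.2 (inv_mem hh)])⟩)
  rw [hF, D.card_sevens.2, mul_comm] at hNeq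
  -- the automorphisms induced on `R`
  set φ := D.R.normalizerMonoidHom
  have hker : ∀ n : N, φ n = 1 ↔ (n : G) ∈ C := by
    intro n
    rw [← MonoidHom.mem_ker, normalizerMonoidHom_ker, mem_subgroupOf, mem_centralizer_singleton_iff]
    exact ⟨fun h => (mem_centralizer_iff.1 h D.r (mem_zpowers _)).symm,
      fun h => mem_centralizer_iff.2 fun a ha => (D.commute_R_of_comm h ha).symm⟩
  have hAut : Nat.card (MulAut D.R) = 6 := by
    haveI : IsCyclic D.R := isCyclic_of_prime_card (p := 7) D.card_R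
    rw [IsCyclic.card_mulAut, D.card_R, Nat.totient_prime (by norm_num)]
  have hrange : Nat.card φ.range = 6 := by
    have hd := card_subgroup_dvd_card φ.range
    rw [hAut] at hd
    have hord : ∀ (n : N) (q : ℕ), q.Prime → orderOf (n : G) = q → (n : G) ∉ C → q ∣ Nat.card φ.range := by
      intro n q hq hn hnC
      have h1 : orderOf (φ n) ∣ q := hn ▸ orderOf_coe n ▸ orderOf_map_dvd φ n
      have h2 := orderOf_dvd_natCard (⟨φ n, ⟨n, rfl⟩⟩ : φ.range)
      rw [← orderOf_coe] at h2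
      rcases (Nat.dvd_prime hq).1 h1 with e | e
      · exact absurd ((hker n).1 (orderOf_eq_one_iff.1 e)) hnC
      · exact e ▸ h2
    obtain ⟨p⟩ := D.fix_nonempty hns
    obtain ⟨x, hx2, -, -, hxr⟩ := D.swapper hns p
    have hxN : x ∈ N := by
      refine mem_normalizer_iff_map_conj_eq.2 (eq_of_le_of_card_ge ?_
        (card_map_of_injective (MulAut.conj x).injective).ge)
      rintro _ ⟨a, ha, rfl⟩
      obtain ⟨j, rfl⟩ := mem_zpowers_iff.1 ha
      show x * D.r ^ j * x⁻¹ ∈ D.R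
      rw [← conj_zpow, hxr]
      exact zpow_mem (inv_mem (mem_zpowers _)) j
    have d2 := hord ⟨x, hxN⟩ 2 Nat.prime_two hx2 (fun h => by
      have e := mem_centralizer_singleton_iff.1 h
      rw [e, mul_inv_cancel_right] at hxr
      have h2' : D.r * D.r = 1 := by nth_rewrite 2 [hxr]; rw [mul_inv_cancel]
      have h3 : orderOf D.r ∣ 2 := orderOf_dvd_of_pow_eq_one (by rw [pow_two, h2'])
      rw [D.r_order] at h3
      norm_num at h3)
    obtain ⟨⟨t, ht⟩, hto⟩ := exists_prime_orderOf_dvd_card' (G := D.NR) 3 (by rw [D.card_sevens.2]; norm_num)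
    rw [orderOf_mk] at hto
    have d3 := hord ⟨t, ht.2⟩ 3 Nat.prime_three hto (fun h => by
      have hR := D.cent_R_eq ht.1 (mem_centralizer_singleton_iff.1 h)
      have h7 := D.mem_R_cases hR (fun e => by rw [e, orderOf_one] at hto; omega)
      omega)
    exact Nat.dvd_antisymm hd (Nat.Coprime.mul_dvd_of_dvd_of_dvd (by norm_num : Nat.Coprime 2 3) d2 d3)
  have hN6 := card_eq_mul_of_fibres N C hCN (fun n : N => (⟨φ n, ⟨n, rfl⟩⟩ : φ.range))
    (fun a b => by
      rw [Subtype.ext_iff]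
      rw [← inv_mul_eq_one, ← map_inv, ← map_mul]
      exact hker _)
    (by rintro ⟨_, n, rfl⟩; exact ⟨n, rfl⟩)
  rw [hrange] at hN6
  refine ⟨_, ?_, rfl, hN6, by rw [← hN6, hNeq]⟩
  rw [← Nat.not_even_iff_odd, even_iff_two_dvd]
  intro h
  obtain ⟨⟨z, hz⟩, hzo⟩ := exists_prime_orderOf_dvd_card' 2 h
  rw [orderOf_mk] at hzo
  have := D.eq_one_of_seven D.r_order (SEPairs.sq_one hzo) (mem_centralizer_singleton_iff.1 hz).symm
  rw [this, orderOf_one] at hzo
  omega

theorem card_Fix : Nat.card D.Fix = 1 := by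
  haveI : Fact (Nat.Prime 2) := ⟨Nat.prime_two⟩
  haveI : Fact (Nat.Prime 7) := ⟨by norm_num⟩
  obtain ⟨f, hodd, hC, hN, hf⟩ := D.centR_card hns
  have hG := D.card_G hns
  have hdvd : Nat.card (normalizer (D.R : Set G)) ∣ Nat.card G := card_subgroup_dvd_card _
  obtain ⟨o, ho⟩ := hodd
  obtain ⟨e, he, hk⟩ : ∃ e, f = 7 * e ∧ Nat.card D.Fix + 1 = 2 * e := ⟨f / 7, by omega, by omega⟩
  have hk' : Nat.card D.Fix = 2 * e - 1 := by omega
  have hek : 42 * e ∣ 168 * (1 + 8 * (2 * e - 1)) := by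
    rw [← hk', ← hG]; rwa [hN, he, show 6 * (7 * e) = 42 * e by ring] at hdvd
  have h28 : e ∣ 28 := by
    rw [show 168 * (1 + 8 * (2 * e - 1)) = 42 * (4 * (1 + 8 * (2 * e - 1))) by ring] at hek
    have h1 : e ∣ 4 * (1 + 8 * (2 * e - 1)) := Nat.dvd_of_mul_dvd_mul_left (by norm_num) hek
    have h2 : 4 * (1 + 8 * (2 * e - 1)) + 28 = 64 * e := by omega
    exact (Nat.dvd_add_right h1).1 (h2 ▸ dvd_mul_left e 64)
  have hle := Nat.le_of_dvd (by norm_num) h28
  rcases (show e = 1 ∨ e = 7 by interval_cases e <;> omega) with rfl | rfl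
  · omega
  -- the large case is impossible
  exfalso
  set Q := centralizer ({D.r} : Set G)
  have hQ : Nat.card Q = 49 := by rw [hC, he]
  have hG' : Nat.card G = 17640 := by rw [hG, hk']
  let S : Sylow 7 G := Sylow.ofCard Q (by
    rw [hQ, hG', show (17640 : ℕ) = 360 * 7 ^ 2 from rfl, Nat.factorization_mul (by norm_num) (by norm_num),
      Finsupp.add_apply, Nat.Prime.factorization_pow (by norm_num), Finsupp.single_eq_same,
      Nat.factorization_eq_zero_of_not_dvd (by norm_num)]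
    rfl)
  have hSQ : (S : Subgroup G) = Q := rfl
  set M := normalizer (Q : Set G)
  have hNM : normalizer (D.R : Set G) ≤ M := by
    intro n hn
    refine mem_normalizer_iff_map_conj_eq.2 (eq_of_le_of_card_ge ?_
      (card_map_of_injective (MulAut.conj n).injective).ge)
    rintro _ ⟨a, ha, rfl⟩
    have hm : n⁻¹ * D.r * n ∈ D.R := by
      simpa using (mem_normalizer_iff.1 (inv_mem hn) D.r).1 (mem_zpowers _)
    have h := D.commute_R_of_comm (mem_centralizer_singleton_iff.1 ha) hm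
    refine mem_centralizer_singleton_iff.2 ?_
    show n * a * n⁻¹ * D.r = D.r * (n * a * n⁻¹)
    calc n * a * n⁻¹ * D.r = n * (a * (n⁻¹ * D.r * n)) * n⁻¹ := by group
      _ = n * (n⁻¹ * D.r * n * a) * n⁻¹ := by rw [h]
      _ = D.r * (n * a * n⁻¹) := by group
  have hidx : M.index ∣ 60 := by
    have h := card_dvd_of_le hNM
    rw [hN, he] at h
    obtain ⟨c, hc⟩ := h
    have hM := M.card_mul_index
    rw [hc, hG'] at hM
    exact ⟨c, by
      have : 294 * (M.index * c) = 294 * 60 := by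
        rw [show 294 * (M.index * c) = 6 * (7 * 7) * c * M.index by ring, hM]
      exact (Nat.eq_of_mul_eq_mul_left (by norm_num) this).symm⟩
  have hn7 : Nat.card (Sylow 7 G) = M.index := by rw [S.card_eq_index_normalizer]; rfl
  have hmod := card_sylow_modEq_one 7 G
  rw [hn7] at hmod
  have h8 : 2 ^ 3 ∣ Nat.card M := by
    have hMc := M.card_mul_index
    rw [hG'] at hMc
    have hle := Nat.le_of_dvd (by norm_num) hidx
    have hodd : M.index = 1 ∨ M.index = 15 := by
      unfold Nat.ModEq at hmod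
      interval_cases h : M.index <;> omega
    rcases hodd with h | h <;> rw [h] at hMc
    · exact ⟨2205, by omega⟩
    · exact ⟨147, by omega⟩
  obtain ⟨B, hB⟩ := Sylow.exists_subgroup_card_pow_prime 2 h8
  have hBG : Nat.card (B.map M.subtype) = 2 ^ (Nat.card G).factorization 2 := by
    rw [card_map_of_injective M.subtype_injective, hB, hG', show (17640 : ℕ) = 2205 * 2 ^ 3 from rfl,
      Nat.factorization_mul (by norm_num) (by norm_num), Finsupp.add_apply,
      Nat.Prime.factorization_pow (by norm_num), Finsupp.single_eq_same,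
      Nat.factorization_eq_zero_of_not_dvd (by norm_num), zero_add]
  obtain ⟨g, hg⟩ := MulAction.exists_smul_eq G D.P (Sylow.ofCard (B.map M.subtype) hBG)
  have hgM : ∀ x ∈ (D.P : Subgroup G), g * x * g⁻¹ ∈ M := by
    intro x hx
    have hm : g * x * g⁻¹ ∈ ((g • D.P : Sylow 2 G) : Subgroup G) := by
      rw [Sylow.coe_subgroup_smul]; exact smul_mem_pointwise_smul x (MulAut.conj g) _ hx
    rw [hg] at hm
    obtain ⟨y, -, hy⟩ := hm
    rw [← hy]
    exact y.2
  set Q' := Q.map (MulAut.conj g⁻¹).toMonoidHom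
  have hQ' : ∀ x ∈ (D.P : Subgroup G), ∀ y ∈ Q', x * y * x⁻¹ ∈ Q' := by
    rintro x hx _ ⟨q, hq, rfl⟩
    refine ⟨_, (mem_normalizer_iff.1 (hgM x hx) q).1 hq, ?_⟩
    show g⁻¹ * (g * x * g⁻¹ * q * (g * x * g⁻¹)⁻¹) * g⁻¹⁻¹ = x * (g⁻¹ * q * g⁻¹⁻¹) * x⁻¹
    group
  have hfree : ∀ x ∈ (D.P : Subgroup G), x ≠ 1 → ∀ y ∈ Q', y * x = x * y → y = 1 := by
    intro x hx hx1 y hy hxy
    have h49 : orderOf y ∣ 49 := by
      have := orderOf_dvd_natCard (⟨y, hy⟩ : Q')
      rwa [orderOf_mk, card_map_of_injective (MulAut.conj g⁻¹).injective, hQ] at this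
    have h24 := orderOf_dvd_natCard (⟨y, mem_centralizer_singleton_iff.2 hxy⟩ : centralizer ({x} : Set G))
    rw [orderOf_mk, D.card_cent' (D.sq_P small_four card_four odd_three hx) hx1] at h24
    exact orderOf_eq_one_iff.1 (Nat.eq_one_of_dvd_coprimes (by norm_num : Nat.Coprime 49 24) h49 h24)
  obtain ⟨a, ha, ha1⟩ := D.exists_ne_one card_four odd_three
  have hJa : D.J * a ≠ 1 := fun e => D.hJT (by
    rw [eq_inv_of_mul_eq_one_left e]; exact inv_mem ha.2)
  have h := eq_bot_of_four_fixed D.sqJ (D.sq_S₀ small_four card_four odd_three ha) (D.comm_J ha).symm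
    (hQ' _ D.hJP) (hQ' a ha.1) (hfree _ D.hJP D.J_ne) (hfree a ha.1 ha1)
    (hfree _ (mul_mem D.hJP ha.1) hJa)
  have : Nat.card Q' = Nat.card Q := card_map_of_injective (MulAut.conj g⁻¹).injective
  rw [h, card_bot, hQ] at this
  omega

theorem centR_eq {x : G} (hx : x * D.r = D.r * x) : x ∈ D.R := by
  obtain ⟨f, -, hC, -, hf⟩ := D.centR_card hns
  rw [D.card_Fix hns] at hf
  have hle : D.R ≤ centralizer ({D.r} : Set G) :=
    zpowers_le.2 (mem_centralizer_singleton_iff.2 rfl)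
  rw [eq_of_le_of_card_ge hle (by rw [hC, D.card_R]; omega)]
  exact mem_centralizer_singleton_iff.2 hx

include D in
theorem card_G' : Nat.card G = 1512 := by rw [D.card_G hns, D.card_Fix hns]

end Ctx

end Cfsg.Agent.Lead.JankoTwoAlt
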