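import Cfsg.Agent.Lib.Lead.JankoTwoAlt.Base

/-!
# The Sylow subgroup and its fusion for degree four and five
-/

set_option autoImplicit false

namespace Cfsg.Agent.Lead.JankoTwoAlt

open Subgroup

universe u

variable {G : Type u} [Group G] [Finite G]

/-- A subgroup on which a four group acts without nontrivial fixed points is trivial. -/
theorem eq_bot_of_four_fixed {M : Subgroup G} {a b : G} (ha : a * a = 1) (hb : b * b = 1)
    (hab : a * b = b * a) (hMa : ∀ x ∈ M, a * x * a⁻¹ ∈ M) (hMb : ∀ x ∈ M, b * x * b⁻¹ ∈ M)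
    (fa : ∀ x ∈ M, x * a = a * x → x = 1) (fb : ∀ x ∈ M, x * b = b * x → x = 1)
    (fab : ∀ x ∈ M, x * (a * b) = a * b * x → x = 1) : M = ⊥ := by
  have inv : ∀ u : G, u * u = 1 → (∀ x ∈ M, u * x * u⁻¹ ∈ M) → (∀ x ∈ M, x * u = u * x → x = 1) →
      ∀ x ∈ M, u * x * u⁻¹ = x⁻¹ := by
    intro u hu hMu fu x hx
    have hui : u⁻¹ = u := inv_eq_of_mul_eq_one_right hu
    let f : M → M := fun y => ⟨(y : G)⁻¹ * (u * y * u⁻¹), mul_mem (inv_mem y.2) (hMu _ y.2)⟩
    have hinj : Function.Injective f := by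
      intro y z h
      have h : (y : G)⁻¹ * (u * y * u⁻¹) = (z : G)⁻¹ * (u * z * u⁻¹) := congrArg Subtype.val h
      have h' := fu ((z : G) * (y : G)⁻¹) (mul_mem z.2 (inv_mem y.2)) (by
        calc (z : G) * (y : G)⁻¹ * u = z * ((y : G)⁻¹ * (u * y * u⁻¹)) * u * (y : G)⁻¹ := by group
          _ = z * ((z : G)⁻¹ * (u * z * u⁻¹)) * u * (y : G)⁻¹ := by rw [h]
          _ = u * (z * (y : G)⁻¹) := by group)
      exact Subtype.ext (mul_inv_eq_one.1 h').symm
    obtain ⟨y, hy⟩ := (Finite.injective_iff_surjective.1 hinj) ⟨x, hx⟩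
    have hy : (y : G)⁻¹ * (u * y * u⁻¹) = x := congrArg Subtype.val hy
    rw [← hy, hui]
    calc u * ((y : G)⁻¹ * (u * y * u)) * u = u * (y : G)⁻¹ * u * y * (u * u) := by group
      _ = ((y : G)⁻¹ * (u * y * u))⁻¹ := by
        rw [hu, mul_one]; simp [mul_inv_rev, hui, mul_assoc]
  rw [eq_bot_iff]
  intro x hx
  refine fab x hx ?_
  have h1 : a * b * x * (a * b)⁻¹ = x := by
    calc a * b * x * (a * b)⁻¹ = a * (b * x * b⁻¹) * a⁻¹ := by group
      _ = x := by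
        rw [inv b hb hMb fb x hx, inv a ha hMa fa _ (inv_mem hx), inv_inv]
  exact (mul_inv_eq_iff_eq_mul.1 h1).symm

namespace Ctx

variable {m : ℕ} (D : Ctx G m)
  (hA : Small (alternatingGroup (Fin m))) {k : ℕ} (hk : Nat.card (alternatingGroup (Fin m)) = 4 * k)
  (hodd : Odd k)

include hk hodd in
theorem card_P : Nat.card (D.P : Subgroup G) = 8 := by
  haveI : Fact (Nat.Prime 2) := ⟨Nat.prime_two⟩
  have hle : (D.P : Subgroup G) ≤ centralizer ({D.J} : Set G) := fun x hx =>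
    mem_centralizer_singleton_iff.2 (D.hcen x hx)
  obtain ⟨n, hn⟩ := IsPGroup.iff_card.1 D.P.2
  have h := relIndex_mul_relIndex ⊥ (D.P : Subgroup G) (centralizer ({D.J} : Set G)) bot_le hle
  rw [relIndex_bot_left, relIndex_bot_left, D.card_cent, hk, hn] at h
  have hno : ¬ 2 ∣ (D.P : Subgroup G).relIndex (centralizer ({D.J} : Set G)) := fun h2 =>
    D.P.not_dvd_index (h2.trans (relIndex_dvd_index_of_le hle))
  rw [hn]
  have h3 : n = 3 := by
    have hp : (2 ^ n * (D.P : Subgroup G).relIndex (centralizer ({D.J} : Set G))).factorization 2 =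
        (2 ^ 3 * k).factorization 2 := by rw [h]; ring_nf
    have hk0 : k ≠ 0 := fun e => by rw [e] at hodd; exact absurd hodd (by decide)
    rw [Nat.factorization_mul (pow_ne_zero _ two_ne_zero) (fun e => hno (by rw [e]; exact dvd_zero 2)),
      Nat.factorization_mul (by norm_num) hk0, Nat.Prime.factorization_pow Nat.prime_two,
      Nat.Prime.factorization_pow Nat.prime_two] at hp
    simp only [Finsupp.add_apply, Finsupp.single_eq_same,
      Nat.factorization_eq_zero_of_not_dvd hno,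
      Nat.factorization_eq_zero_of_not_dvd (show ¬ 2 ∣ k from fun h2 =>
        Nat.not_even_iff_odd.2 hodd (even_iff_two_dvd.2 h2))] at hp
    exact hp
  rw [h3]; rfl

include hk hodd in
theorem card_S₀ : Nat.card D.S₀ = 4 := by
  have h := relIndex_mul_relIndex ⊥ D.S₀ (D.P : Subgroup G) bot_le inf_le_left
  rw [relIndex_bot_left, relIndex_bot_left, D.relIndex_S₀, D.card_P hk hodd] at h
  omega

omit [Finite G] in
theorem comm_J {x : G} (hx : x ∈ D.S₀) : x * D.J = D.J * x := D.hcen x hx.1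

omit [Finite G] in
theorem S₀_le : D.S₀ ≤ (D.P : Subgroup G) := inf_le_left

include hA hk hodd in
theorem sq_S₀ {x : G} (hx : x ∈ D.S₀) : x * x = 1 := by
  have h4 : orderOf (⟨x, hx⟩ : D.S₀) ∣ 4 := D.card_S₀ hk hodd ▸ orderOf_dvd_natCard _
  rw [orderOf_mk] at h4
  obtain ⟨a, ha⟩ := D.exists_emb hx.2
  have h1 : a * a * (a * a) = 1 := D.emb_inj (by
    rw [map_mul, map_mul, map_one, ha]
    have := orderOf_dvd_iff_pow_eq_one.1 h4
    rwa [show x ^ 4 = x * x * (x * x) by simp [pow_succ, mul_assoc]] at this)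
  rw [← ha, ← map_mul, hA.sq a h1, map_one]

include hA hk hodd in
theorem sq_P {x : G} (hx : x ∈ (D.P : Subgroup G)) : x * x = 1 := by
  rcases D.mem_S_cases hx with h | h
  · exact D.sq_S₀ hA hk hodd h
  · have := D.sq_S₀ hA hk hodd h
    rwa [show D.J * x * (D.J * x) = D.J * (x * D.J) * x by group, D.hcen x hx, D.J_mul_J] at this

include hA hk hodd in
theorem comm_P {x y : G} (hx : x ∈ (D.P : Subgroup G)) (hy : y ∈ (D.P : Subgroup G)) :
    x * y = y * x := by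
  have h := D.sq_P hA hk hodd (mul_mem hx hy)
  rw [mul_eq_one_iff_eq_inv, mul_inv_rev] at h
  rw [h, inv_eq_of_mul_eq_one_right (D.sq_P hA hk hodd hx),
    inv_eq_of_mul_eq_one_right (D.sq_P hA hk hodd hy)]

include hA hk hodd in
theorem cent_S₀ {x a : G} (ha : a ∈ D.S₀) (ha1 : a ≠ 1) (hx : x ∈ D.T) (hxa : x * a = a * x) :
    x ∈ D.S₀ := by
  obtain ⟨a', rfl⟩ := D.exists_emb ha.2
  obtain ⟨x', rfl⟩ := D.exists_emb hx
  have hsq : a' * a' = 1 := D.emb_inj (by rw [map_mul, map_one]; exact D.sq_S₀ hA hk hodd ha)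
  let f : D.S₀ → {y : alternatingGroup (Fin m) // y * a' = a' * y} := fun s =>
    ⟨D.e ⟨s, s.2.2⟩, D.emb_inj (by
      rw [map_mul, map_mul]
      simpa [emb] using D.comm_P hA hk hodd s.2.1 ha.1)⟩
  have hf : Function.Bijective f := (Nat.bijective_iff_injective_and_card f).2
    ⟨fun s s' h => by
      have := D.e.injective (congrArg Subtype.val h)
      exact Subtype.ext (congrArg (fun z : D.T => (z : G)) this),
    by rw [D.card_S₀ hk hodd, hA.cent a' (fun e => ha1 (by rw [e, map_one])) hsq]⟩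
  obtain ⟨s, hs⟩ := hf.2 ⟨x', D.emb_inj (by rw [map_mul, map_mul]; exact hxa)⟩
  have : D.e ⟨s, s.2.2⟩ = x' := congrArg Subtype.val hs
  rw [← this]
  simp [emb, s.2]

include hk hodd in
theorem exists_ne_one : ∃ a ∈ D.S₀, a ≠ 1 := by
  haveI : Nontrivial D.S₀ := Finite.one_lt_card_iff_nontrivial.1 (by rw [D.card_S₀ hk hodd]; omega)
  obtain ⟨⟨a, ha⟩, h⟩ := exists_ne (1 : D.S₀)
  exact ⟨a, ha, fun e => h (Subtype.ext e)⟩

include hA hk hodd in
theorem cent_P {x : G} (hx : ∀ y ∈ (D.P : Subgroup G), x * y = y * x) : x ∈ (D.P : Subgroup G) := by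
  obtain ⟨a, ha, ha1⟩ := D.exists_ne_one hk hodd
  rcases D.split x (hx _ D.hJP) with h | h
  · exact (D.cent_S₀ hA hk hodd ha ha1 h (hx a ha.1)).1
  · have := D.cent_S₀ hA hk hodd ha ha1 h (by
      rw [mul_assoc, hx a ha.1, ← mul_assoc, ← D.comm_J ha, mul_assoc])
    have h' := (D.P : Subgroup G).mul_mem D.hJP this.1
    rwa [D.J_mul_J] at h'

include hk hodd in
theorem S₀_cases {a b x : G} (ha : a ∈ D.S₀) (hb : b ∈ D.S₀) (ha1 : a ≠ 1) (hb1 : b ≠ 1) (hab : a ≠ b)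
    (h1 : a * b ≠ 1) (hx : x ∈ D.S₀) : x = 1 ∨ x = a ∨ x = b ∨ x = a * b := by
  classical
  haveI := Fintype.ofFinite D.S₀
  have hcard : ({1, ⟨a, ha⟩, ⟨b, hb⟩, ⟨a * b, mul_mem ha hb⟩} : Finset D.S₀).card = 4 := by
    rw [Finset.card_insert_of_notMem (by simp [Subtype.ext_iff, ha1.symm, hb1.symm, h1.symm]),
      Finset.card_insert_of_notMem (by simp [Subtype.ext_iff, hab, hb1]),
      Finset.card_insert_of_notMem (by simp [Subtype.ext_iff, ha1]), Finset.card_singleton]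
  have huniv := Finset.eq_univ_of_card _ (hcard.trans
    ((D.card_S₀ hk hodd).symm.trans Nat.card_eq_fintype_card))
  have := Finset.mem_univ (⟨x, hx⟩ : D.S₀)
  rw [← huniv] at this
  simpa [Subtype.ext_iff] using this

include hA hk hodd in
theorem exists_rot {a b : G} (ha : a ∈ D.S₀) (hb : b ∈ D.S₀) (ha1 : a ≠ 1) (hb1 : b ≠ 1) (hab : a ≠ b) :
    ∃ t ∈ D.T, t ∈ normalizer ((D.P : Subgroup G) : Set G) ∧ t * a * t⁻¹ = b := by
  obtain ⟨a', rfl⟩ := D.exists_emb ha.2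
  obtain ⟨b', rfl⟩ := D.exists_emb hb.2
  have h1 : D.emb a' * D.emb b' ≠ 1 := fun e => hab (by
    rw [eq_inv_of_mul_eq_one_left e, inv_eq_of_mul_eq_one_right (D.sq_S₀ hA hk hodd hb)])
  obtain ⟨t, ht1, ht2⟩ := hA.rot a' b' (fun e => ha1 (by rw [e, map_one]))
    (fun e => hb1 (by rw [e, map_one])) (fun e => hab (by rw [e]))
    (D.emb_inj (by rw [map_mul, map_one]; exact D.sq_S₀ hA hk hodd ha))
    (D.emb_inj (by rw [map_mul, map_one]; exact D.sq_S₀ hA hk hodd hb))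
    (D.emb_inj (by rw [map_mul, map_mul]; exact D.comm_P hA hk hodd ha.1 hb.1))
  have e1 := congrArg D.emb ht1
  have e2 := congrArg D.emb ht2
  simp only [map_mul, map_inv] at e1 e2
  refine ⟨D.emb t, D.emb_mem t, ?_, e1⟩
  have hS₀ : ∀ x ∈ D.S₀, D.emb t * x * (D.emb t)⁻¹ ∈ D.S₀ := by
    intro x hx
    rcases D.S₀_cases hk hodd ha hb ha1 hb1 hab h1 hx with rfl | rfl | rfl | rfl
    · simp
    · rw [e1]; exact hb
    · rw [e2]; exact mul_mem ha hb
    · rw [show D.emb t * (D.emb a' * D.emb b') * (D.emb t)⁻¹ =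
        (D.emb t * D.emb a' * (D.emb t)⁻¹) * (D.emb t * D.emb b' * (D.emb t)⁻¹) by group, e1, e2]
      exact mul_mem hb (mul_mem ha hb)
  refine mem_normalizer_iff_map_conj_eq.2 (eq_of_le_of_card_ge ?_ ?_)
  · rintro _ ⟨y, hy, rfl⟩
    show D.emb t * y * (D.emb t)⁻¹ ∈ (D.P : Subgroup G)
    rcases D.mem_S_cases hy with h | h
    · exact (hS₀ y h).1
    · have h' := mul_mem D.hJP (hS₀ _ h).1
      rwa [show D.J * (D.emb t * (D.J * y) * (D.emb t)⁻¹) = D.J * (D.emb t * D.J) * y * (D.emb t)⁻¹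
        by group, D.comm _ (D.emb_mem t), D.J_mul_J] at h'
  · rw [card_map_of_injective (MulAut.conj (D.emb t)).injective]

omit [Finite G] in
theorem conj_P {n x : G} (hn : n ∈ normalizer ((D.P : Subgroup G) : Set G)) (hx : x ∈ (D.P : Subgroup G)) :
    n * x * n⁻¹ ∈ (D.P : Subgroup G) :=
  (mem_normalizer_iff.1 hn x).1 hx

include hA hk hodd in
theorem orbit_P {x : G} (hx : x ∈ (D.P : Subgroup G)) (hx1 : x ≠ 1) :
    ∃ n ∈ normalizer ((D.P : Subgroup G) : Set G), n * D.J * n⁻¹ = x := by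
  haveI : Fact (Nat.Prime 2) := ⟨Nat.prime_two⟩
  set N := normalizer ((D.P : Subgroup G) : Set G)
  let O : G → Prop := fun x => ∃ n ∈ N, n * D.J * n⁻¹ = x
  have hO : ∀ {n x : G}, n ∈ N → O x → O (n * x * n⁻¹) := by
    rintro n x hn ⟨l, hl, rfl⟩
    exact ⟨n * l, mul_mem hn hl, by group⟩
  obtain ⟨g, hg⟩ := D.exists_conj
  have hsyl : Fusion.SylIn 2 (D.P : Subgroup G) ⊤ :=
    ⟨le_top, D.P.2, by rw [relIndex_top_right]; exact D.P.not_dvd_index⟩
  obtain ⟨n₀, hn₀, e₀⟩ := Fusion.fusion_of_abelian hsyl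
    (fun y hy => mem_centralizer_iff.2 fun z hz => D.comm_P hA hk hodd hz hy) D.hJP hg.1
  set a := g * D.J * g⁻¹ with ha
  have ha1 : a ≠ 1 := fun e => D.J_ne (by
    calc D.J = g⁻¹ * a * g := by rw [ha]; group
      _ = 1 := by rw [e]; group)
  have haO : O a := ⟨n₀, hn₀, e₀⟩
  have hS : ∀ y ∈ D.S₀, y ≠ 1 → O y := by
    intro y hy hy1
    by_cases hya : a = y
    · exact hya ▸ haO
    obtain ⟨t, -, ht, he⟩ := D.exists_rot hA hk hodd hg hy ha1 hy1 hya
    exact he ▸ hO ht haO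
  by_cases hJS : ∀ y ∈ D.S₀, y ≠ 1 → O (D.J * y)
  · rcases D.mem_S_cases hx with h | h
    · exact hS x h hx1
    · by_cases h1 : D.J * x = 1
      · have := congrArg (D.J * ·) h1
        simp only [D.J_mul_J, mul_one] at this
        exact ⟨1, one_mem _, by simp [this]⟩
      · simpa [D.J_mul_J] using hJS _ h h1
  exfalso
  apply hJS
  intro y hy hy1
  by_contra hno
  have hnone : ∀ z ∈ D.S₀, z ≠ 1 → ¬ O (D.J * z) := by
    intro z hz hz1 hz'
    by_cases hzy : z = y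
    · exact hno (hzy ▸ hz')
    obtain ⟨t, htT, ht, he⟩ := D.exists_rot hA hk hodd hz hy hz1 hy1 hzy
    refine hno ?_
    have := hO ht hz'
    rwa [show t * (D.J * z) * t⁻¹ = (t * D.J * t⁻¹) * (t * z * t⁻¹) by group, he, D.comm t htT,
      mul_inv_cancel_right] at this
  have hclass : ∀ z ∈ (D.P : Subgroup G), O z → z = D.J ∨ z ∈ D.S₀ := by
    intro z hz hzO
    rcases D.mem_S_cases hz with h | h
    · exact Or.inr h
    · by_cases h1 : D.J * z = 1
      · exact Or.inl (by simpa [D.J_mul_J] using congrArg (D.J * ·) h1)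
      · exact absurd (by rwa [D.J_mul_J]) (hnone _ h h1)
  obtain ⟨b, hb, hb1, hba⟩ : ∃ b ∈ D.S₀, b ≠ 1 ∧ b ≠ a := by
    by_contra h
    simp only [not_exists, not_and, not_not] at h
    classical
    have := D.card_S₀ hk hodd
    have hle : Nat.card D.S₀ ≤ Nat.card ({1, a} : Finset G) := Nat.card_le_card_of_injective
      (fun s : D.S₀ => (⟨(s : G), by
        by_cases hs : (s : G) = 1
        · simp [hs]
        · simp [h s s.2 hs]⟩ : ({1, a} : Finset G)))
      fun s s' e => Subtype.ext (congrArg (fun z : ({1, a} : Finset G) => (z : G)) e)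
    rw [this, Nat.card_eq_fintype_card, Fintype.card_coe] at hle
    have := Finset.card_le_two (a := (1 : G)) (b := a)
    omega
  have hab1 : a * b ≠ 1 := fun e => hba (by
    rw [eq_inv_of_mul_eq_one_right e, inv_eq_of_mul_eq_one_right (D.sq_S₀ hA hk hodd hg)])
  have hinj : ∀ {u v : G}, n₀ * u * n₀⁻¹ = n₀ * v * n₀⁻¹ → u = v := fun e =>
    mul_left_cancel (mul_right_cancel e)
  have ne_J : ∀ z ∈ D.S₀, z ≠ D.J := fun z hz e => D.hJT (e ▸ hz.2)
  have h1 := hclass _ (D.conj_P hn₀ hg.1) (hO hn₀ haO)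
  have h2 := hclass _ (D.conj_P hn₀ hb.1) (hO hn₀ (hS b hb hb1))
  have h3 := hclass _ (D.conj_P hn₀ (mul_mem hg hb).1) (hO hn₀ (hS _ (mul_mem hg hb) hab1))
  rw [show n₀ * (a * b) * n₀⁻¹ = (n₀ * a * n₀⁻¹) * (n₀ * b * n₀⁻¹) by group] at h3
  have hxa : n₀ * a * n₀⁻¹ ≠ a := fun e => ne_J a hg (hinj (e.trans e₀.symm))
  have hxb : n₀ * b * n₀⁻¹ ≠ a := fun e => ne_J b hb (hinj (e.trans e₀.symm))
  have hxab : (n₀ * a * n₀⁻¹) * (n₀ * b * n₀⁻¹) ≠ a := fun e => ne_J (a * b) (mul_mem hg hb)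
    (hinj (Eq.trans (by group) (e.trans e₀.symm)))
  have hxy : n₀ * a * n₀⁻¹ ≠ n₀ * b * n₀⁻¹ := fun e => hba (hinj e).symm
  have hx1' : n₀ * a * n₀⁻¹ ≠ 1 := fun e => ha1 (hinj (e.trans (by group)))
  have hy1' : n₀ * b * n₀⁻¹ ≠ 1 := fun e => hb1 (hinj (e.trans (by group)))
  generalize hXX : n₀ * a * n₀⁻¹ = X at h1 h3 hxa hxab hxy hx1'
  generalize hYY : n₀ * b * n₀⁻¹ = Y at h2 h3 hxb hxab hxy hy1'
  rcases h1 with rfl | hX <;> rcases h2 with rfl | hY
  · exact hxy rfl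
  · rcases h3 with e | e
    · exact hy1' (mul_left_cancel (e.trans (mul_one _).symm))
    · exact D.hJT ((D.T.mul_mem_cancel_right hY.2).1 e.2)
  · rcases h3 with e | e
    · exact hx1' (mul_right_cancel (e.trans (one_mul _).symm))
    · exact D.hJT ((D.T.mul_mem_cancel_left hX.2).1 e.2)
  · have hc : ∀ z ∈ D.S₀, z = 1 ∨ z = a ∨ z = b ∨ z = a * b :=
      fun z hz => D.S₀_cases hk hodd hg hb ha1 hb1 hba.symm hab1 hz
    rcases hc X hX with e1 | e1 | e1 | e1 <;> rcases hc Y hY with e2 | e2 | e2 | e2 <;>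
      first
      | exact hx1' e1
      | exact hy1' e2
      | exact hxa e1
      | exact hxb e2
      | exact hxy (e1.trans e2.symm)
      | (refine hxab ?_
         rw [e1, e2, D.comm_P hA hk hodd hg.1 hb.1, ← mul_assoc, D.sq_S₀ hA hk hodd hb, one_mul])
      | (refine hxab ?_
         rw [e1, e2, mul_assoc, D.sq_S₀ hA hk hodd hb, mul_one])

include hA hk hodd in
theorem exists_conj_J {u : G} (hu : orderOf u = 2) : ∃ g : G, g * D.J * g⁻¹ = u := by
  haveI : Fact (Nat.Prime 2) := ⟨Nat.prime_two⟩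
  obtain ⟨Q, hQ⟩ := (IsPGroup.of_card (n := 1) (by rw [Nat.card_zpowers, hu, pow_one]) :
    IsPGroup 2 (zpowers u)).exists_le_sylow
  obtain ⟨g, hg⟩ := MulAction.exists_smul_eq G Q D.P
  have hmem : g * u * g⁻¹ ∈ (D.P : Subgroup G) := by
    rw [← hg, Sylow.coe_subgroup_smul]
    exact smul_mem_pointwise_smul u (MulAut.conj g) _ (hQ (mem_zpowers u))
  have hne : g * u * g⁻¹ ≠ 1 := fun e => by
    have : u = 1 := mul_left_cancel (mul_right_cancel (e.trans (by group) : g * u * g⁻¹ = g * 1 * g⁻¹))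
    rw [this, orderOf_one] at hu
    omega
  obtain ⟨n, -, he⟩ := D.orbit_P hA hk hodd hmem hne
  exact ⟨g⁻¹ * n, by rw [show g⁻¹ * n * D.J * (g⁻¹ * n)⁻¹ = g⁻¹ * (n * D.J * n⁻¹) * g by group, he]; group⟩

include D hA hk hodd in
theorem odd_normal_eq_bot {M : Subgroup G} [M.Normal] (hM : ∀ x ∈ M, x * x = 1 → x = 1) : M = ⊥ := by
  have hfix : ∀ x ∈ M, x * D.J = D.J * x → x = 1 := by
    intro x hx hxJ
    have h2 : x * x ∈ D.T := by
      rcases D.split x hxJ with h | h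
      · exact mul_mem h h
      · have h' := mul_mem h h
        rwa [show D.J * x * (D.J * x) = D.J * (x * D.J) * x by group, hxJ, D.J_mul_J] at h'
    refine hM x hx ?_
    obtain ⟨a, ha⟩ := D.exists_emb h2
    rw [← ha]
    by_cases ha1 : a = 1
    · rw [ha1, map_one]
    exfalso
    have hxM : D.emb a ∈ M := by rw [ha]; exact mul_mem hx hx
    have ha2 : a * a ≠ 1 := fun e => ha1 (D.emb_inj (by
      rw [map_one]; exact hM _ hxM (by rw [← map_mul, e, map_one])))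
    obtain ⟨t, ht, htne⟩ := hA.odd a ha1 ha2
    refine htne (D.emb_inj ?_)
    rw [map_one]
    refine hM _ ?_ (by rw [← map_mul, ht, map_one])
    simp only [map_mul, map_inv]
    exact mul_mem (mul_mem hxM hxM) (‹M.Normal›.conj_mem _ hxM _)
  have hall : ∀ u : G, u ∈ (D.P : Subgroup G) → u ≠ 1 → ∀ x ∈ M, x * u = u * x → x = 1 := by
    intro u hu hu1 x hx hxu
    obtain ⟨n, -, rfl⟩ := D.orbit_P hA hk hodd hu hu1
    have h := hfix (n⁻¹ * x * n) (by simpa using ‹M.Normal›.conj_mem x hx n⁻¹) (by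
      calc n⁻¹ * x * n * D.J = n⁻¹ * (x * (n * D.J * n⁻¹)) * n := by group
        _ = n⁻¹ * (n * D.J * n⁻¹ * x) * n := by rw [hxu]
        _ = D.J * (n⁻¹ * x * n) := by group)
    calc x = n * (n⁻¹ * x * n) * n⁻¹ := by group
      _ = 1 := by rw [h]; group
  obtain ⟨a, ha, ha1⟩ := D.exists_ne_one hk hodd
  have haJ : D.J * a ≠ 1 := fun e => D.hJT (by
    rw [eq_inv_of_mul_eq_one_left e]; exact inv_mem ha.2)
  exact eq_bot_of_four_fixed D.sqJ (D.sq_S₀ hA hk hodd ha) (D.comm_J ha).symm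
    (fun x hx => ‹M.Normal›.conj_mem x hx _) (fun x hx => ‹M.Normal›.conj_mem x hx _)
    (hall _ D.hJP D.J_ne) (hall a ha.1 ha1) (hall _ (mul_mem D.hJP ha.1) haJ)

include D hA hk hodd in
theorem mem_of_normal {M : Subgroup G} [M.Normal] (hM : M ≠ ⊥) {u : G} (hu : orderOf u = 2) : u ∈ M := by
  obtain ⟨x, hx, hx2, hx1⟩ : ∃ x ∈ M, x * x = 1 ∧ x ≠ 1 := by
    by_contra h
    simp only [not_exists, not_and, not_not] at h
    exact hM (D.odd_normal_eq_bot hA hk hodd h)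
  have ho : orderOf x = 2 := orderOf_eq_prime (by rw [pow_two, hx2]) hx1
  obtain ⟨g, hg⟩ := D.exists_conj_J hA hk hodd ho
  obtain ⟨h, hh⟩ := D.exists_conj_J hA hk hodd hu
  rw [← hh, show h * D.J * h⁻¹ = (h * g⁻¹) * (g * D.J * g⁻¹) * (h * g⁻¹)⁻¹ by group, hg]
  exact ‹M.Normal›.conj_mem x hx _

end Ctx

end Cfsg.Agent.Lead.JankoTwoAlt
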